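import Mathlib.RingTheory.MvPolynomial.Symmetric.FundamentalTheorem
import Mathlib.RingTheory.MvPolynomial.WeightedHomogeneous
import Mathlib.RingTheory.MvPolynomial.Homogeneous

set_option autoImplicit false

namespace Groth.Agent.Lambda37

open MvPolynomial Finset

variable {R : Type*} [CommRing R] {σ τ : Type*} {M : Type*} [AddCommMonoid M]

/-- Substituting weighted homogeneous polynomials into a weighted homogeneous polynomial. -/
theorem isWeightedHomogeneous_aeval {w : σ → M} {v : τ → M} {g : σ → MvPolynomial τ R}
    (hg : ∀ i, IsWeightedHomogeneous v (g i) (w i)) {p : MvPolynomial σ R} {μ : M}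
    (hp : IsWeightedHomogeneous w p μ) : IsWeightedHomogeneous v (aeval g p) μ := by
  have hmem : aeval g p ∈ weightedHomogeneousSubmodule R v μ := by
    rw [p.as_sum, map_sum]
    refine Submodule.sum_mem _ fun d hd => ?_
    rw [aeval_monomial, ← Algebra.smul_def]
    refine Submodule.smul_mem _ _ ?_
    rw [mem_weightedHomogeneousSubmodule]
    have hw : Finsupp.weight w d = μ := hp (mem_support_iff.mp hd)
    rw [← hw, Finsupp.weight_apply, Finsupp.prod, Finsupp.sum]
    exact IsWeightedHomogeneous.prod _ _ _ fun i _ => (hg i).pow _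
  exact hmem

/-- A graded injective substitution reflects the vanishing of homogeneous components. -/
theorem component_eq_zero_of_aeval {w : σ → M} {v : τ → M} {g : σ → MvPolynomial τ R}
    (hg : ∀ i, IsWeightedHomogeneous v (g i) (w i))
    (hinj : Function.Injective (aeval g : MvPolynomial σ R →ₐ[R] MvPolynomial τ R))
    (p : MvPolynomial σ R) (μ : M) (h : weightedHomogeneousComponent v μ (aeval g p) = 0) :
    weightedHomogeneousComponent w μ p = 0 := by
  classical
  apply hinj
  rw [map_zero, ← h]
  have hfin := weightedHomogeneousComponent_finsupp (w := w) p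
  have hsum := sum_weightedHomogeneousComponent w p
  rw [finsum_eq_sum _ hfin] at hsum
  conv_rhs => rw [← hsum, map_sum, map_sum]
  have hc : ∀ ν, weightedHomogeneousComponent v μ (aeval g (weightedHomogeneousComponent w ν p)) =
      if μ = ν then aeval g (weightedHomogeneousComponent w ν p) else 0 := fun ν =>
    weightedHomogeneousComponent_of_mem
      (isWeightedHomogeneous_aeval hg (weightedHomogeneousComponent_isWeightedHomogeneous ν p))
  simp only [hc, Finset.sum_ite_eq]
  split_ifs with hμ
  · rfl
  · have h0 : weightedHomogeneousComponent w μ p = 0 := by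
      by_contra hne
      exact hμ ((Set.Finite.mem_toFinset _).mpr hne)
    rw [h0, map_zero]

theorem isWeightedHomogeneous_of_aeval {w : σ → M} {v : τ → M} {g : σ → MvPolynomial τ R}
    (hg : ∀ i, IsWeightedHomogeneous v (g i) (w i))
    (hinj : Function.Injective (aeval g : MvPolynomial σ R →ₐ[R] MvPolynomial τ R))
    {p : MvPolynomial σ R} {μ : M} (h : IsWeightedHomogeneous v (aeval g p) μ) :
    IsWeightedHomogeneous w p μ := by
  classical
  intro d hd
  by_contra hne
  have h0 := component_eq_zero_of_aeval hg hinj p (Finsupp.weight w d) (by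
    rw [weightedHomogeneousComponent_of_mem h, if_neg hne])
  have := congrArg (coeff d) h0
  rw [coeff_weightedHomogeneousComponent, if_pos rfl, coeff_zero] at this
  exact hd this

variable {n : ℕ}

/-- The elementary symmetric polynomials `e₁, …, eₙ`. -/
noncomputable def eVec (R : Type*) [CommRing R] (n : ℕ) (k : Fin n) : MvPolynomial (Fin n) R :=
  esymm (Fin n) R ((k : ℕ) + 1)

theorem aeval_eVec_injective : Function.Injective
    (aeval (eVec R n) : MvPolynomial (Fin n) R →ₐ[R] MvPolynomial (Fin n) R) := by
  have h := esymmAlgHom_fin_injective (R := R) (n := n) (m := n) le_rfl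
  intro a b hab
  apply h
  apply Subtype.ext
  rw [esymmAlgHom_apply, esymmAlgHom_apply]
  exact hab

theorem exists_eq_aeval_eVec {p : MvPolynomial (Fin n) R} (hp : p.IsSymmetric) :
    ∃ q : MvPolynomial (Fin n) R, aeval (eVec R n) q = p := by
  obtain ⟨q, hq⟩ := esymmAlgHom_fin_surjective (R := R) (n := n) (m := n) le_rfl ⟨p, hp⟩
  refine ⟨q, ?_⟩
  have := congrArg Subtype.val hq
  rw [esymmAlgHom_apply] at this
  exact this

theorem eVec_isWeightedHomogeneous (k : Fin n) :
    IsWeightedHomogeneous (fun _ : Fin n => (1 : ℕ)) (eVec R n k) ((k : ℕ) + 1) := by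
  unfold eVec
  rw [esymm_eq_sum_monomial]
  refine IsWeightedHomogeneous.sum _ _ _ fun t ht => isWeightedHomogeneous_monomial _ _ _ ?_
  rw [map_sum, Finset.sum_congr rfl (fun i _ => Finsupp.weight_single _ i 1)]
  simp [(Finset.mem_powersetCard.mp ht).2]

/-- A symmetric polynomial without terms of degree `< r` is a polynomial in the elementary symmetric
ones all of whose monomials have weight at least `r`. -/
theorem exists_esymm_weight_ge {p : MvPolynomial (Fin n) R} (hp : p.IsSymmetric) (r : ℕ)
    (hlow : ∀ μ < r, weightedHomogeneousComponent (fun _ : Fin n => (1 : ℕ)) μ p = 0) :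
    ∃ q : MvPolynomial (Fin n) R, aeval (eVec R n) q = p ∧
      ∀ d ∈ q.support, r ≤ Finsupp.weight (fun k : Fin n => (k : ℕ) + 1) d := by
  classical
  obtain ⟨q, hq⟩ := exists_eq_aeval_eVec hp
  refine ⟨q, hq, fun d hd => ?_⟩
  by_contra hlt
  push Not at hlt
  have h0 := component_eq_zero_of_aeval (w := fun k : Fin n => (k : ℕ) + 1)
    (fun k => eVec_isWeightedHomogeneous k) aeval_eVec_injective q _ (by rw [hq]; exact hlow _ hlt)
  have := congrArg (coeff d) h0
  rw [coeff_weightedHomogeneousComponent, if_pos rfl, coeff_zero] at this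
  exact mem_support_iff.mp hd this

end Groth.Agent.Lambda37
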