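import Groth.Agent.Lambda37.Split
import Groth.Agent.Lambda37.Sym

set_option autoImplicit false

universe u

namespace Groth.Agent.Lambda37

open LambdaRing Finset

variable {K : Type u} [CommRing K] [LambdaOps K] (P : PosStructure K)

/-- The generators of the n-th step of the γ-filtration. -/
def filtGen (n : ℕ) : Set K :=
  {y | ∃ (l : List (ℕ × K)), (∀ p ∈ l, P.aug p.2 = 0) ∧ n ≤ (l.map Prod.fst).sum ∧
    y = (l.map fun p => gamma p.1 p.2).prod}

theorem filt_eq (n : ℕ) : gammaFiltration P n = if n = 0 then ⊤ else AddSubgroup.closure (filtGen P n) := rfl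

theorem mem_filt_zero (x : K) : x ∈ gammaFiltration P 0 := by simp [gammaFiltration]

theorem filtGen_subset {n : ℕ} {y : K} (h : y ∈ filtGen P n) : y ∈ gammaFiltration P n := by
  rw [filt_eq]
  split_ifs
  · trivial
  · exact AddSubgroup.subset_closure h

theorem filt_induction {n : ℕ} (hn : 0 < n) {p : K → Prop} (hgen : ∀ y ∈ filtGen P n, p y) (h0 : p 0)
    (hadd : ∀ a b, p a → p b → p (a + b)) (hneg : ∀ a, p a → p (-a)) {x : K}
    (hx : x ∈ gammaFiltration P n) : p x := by
  rw [filt_eq, if_neg hn.ne'] at hx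
  induction hx using AddSubgroup.closure_induction with
  | mem y hy => exact hgen y hy
  | zero => exact h0
  | add a b _ _ ha hb => exact hadd a b ha hb
  | neg a _ ha => exact hneg a ha

theorem filt_anti {m n : ℕ} (h : m ≤ n) : gammaFiltration P n ≤ gammaFiltration P m := by
  intro x hx
  rcases Nat.eq_zero_or_pos m with rfl | hm
  · exact mem_filt_zero P x
  · refine filt_induction P (hm.trans_le h) (fun y hy => ?_) (zero_mem _) (fun a b => add_mem) (fun a => neg_mem) hx
    obtain ⟨l, hl, hs, rfl⟩ := hy
    exact filtGen_subset P ⟨l, hl, h.trans hs, rfl⟩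

theorem filt_ideal {n : ℕ} (a : K) {x : K} (hx : x ∈ gammaFiltration P n) :
    a * x ∈ gammaFiltration P n := by
  rcases Nat.eq_zero_or_pos n with rfl | hn
  · exact mem_filt_zero P _
  refine filt_induction P hn (p := fun x => a * x ∈ gammaFiltration P n) (fun y hy => ?_) (by simp)
    (fun u v hu hv => by simp only [mul_add]; exact add_mem hu hv)
    (fun u hu => by simp only [mul_neg]; exact neg_mem hu) hx
  obtain ⟨l, hl, hs, rfl⟩ := hy
  have h1 : (a - (P.aug a : K)) * (l.map fun p => gamma p.1 p.2).prod ∈ gammaFiltration P n := by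
    refine filtGen_subset P ⟨(1, a - (P.aug a : K)) :: l, ?_, ?_, ?_⟩
    · intro p hp
      rcases List.mem_cons.mp hp with rfl | hp
      · simp
      · exact hl p hp
    · simp only [List.map_cons, List.sum_cons]; omega
    · simp [gamma_one]
  have h2 : (P.aug a : K) * (l.map fun p => gamma p.1 p.2).prod ∈ gammaFiltration P n := by
    rw [← zsmul_eq_mul]
    exact zsmul_mem (filtGen_subset P ⟨l, hl, hs, rfl⟩) _
  have := add_mem h1 h2
  rwa [← add_mul, sub_add_cancel] at this

theorem filt_mul {m n : ℕ} {x y : K} (hx : x ∈ gammaFiltration P m) (hy : y ∈ gammaFiltration P n) :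
    x * y ∈ gammaFiltration P (m + n) := by
  rcases Nat.eq_zero_or_pos m with rfl | hm
  · rw [zero_add]; exact filt_ideal P x hy
  rcases Nat.eq_zero_or_pos n with rfl | hn
  · rw [add_zero, mul_comm]; exact filt_ideal P y hx
  refine filt_induction P hm (p := fun x => x * y ∈ gammaFiltration P (m + n)) (fun a ha => ?_) (by simp)
    (fun u v hu hv => by simp only [add_mul]; exact add_mem hu hv)
    (fun u hu => by simp only [neg_mul]; exact neg_mem hu) hx
  refine filt_induction P hn (p := fun y => a * y ∈ gammaFiltration P (m + n)) (fun b hb => ?_) (by simp)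
    (fun u v hu hv => by simp only [mul_add]; exact add_mem hu hv)
    (fun u hu => by simp only [mul_neg]; exact neg_mem hu) hy
  obtain ⟨l, hl, hs, rfl⟩ := ha
  obtain ⟨l', hl', hs', rfl⟩ := hb
  refine filtGen_subset P ⟨l ++ l', fun p hp => ?_, ?_, by simp⟩
  · rcases List.mem_append.mp hp with h | h
    · exact hl p h
    · exact hl' p h
  · simp only [List.map_append, List.sum_append]; omega

theorem gamma_mem_filt (r : ℕ) {x : K} (hx : P.aug x = 0) : gamma r x ∈ gammaFiltration P r := by
  refine filtGen_subset P ⟨[(r, x)], by simpa using hx, by simp, by simp⟩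

theorem mem_filt_one_of_aug {x : K} (hx : P.aug x = 0) : x ∈ gammaFiltration P 1 := by
  simpa [gamma_one] using gamma_mem_filt P 1 hx

theorem prod_pow_mem_filt {ι : Type*} (s : Finset ι) (a : ι → K) (w : ι → ℕ) (e : ι → ℕ)
    (ha : ∀ i, a i ∈ gammaFiltration P (w i)) :
    ∏ i ∈ s, a i ^ e i ∈ gammaFiltration P (∑ i ∈ s, e i * w i) := by
  classical
  induction s using Finset.induction with
  | empty => simp [mem_filt_zero]
  | insert i s hi ih =>
    rw [Finset.prod_insert hi, Finset.sum_insert hi]
    refine filt_mul P ?_ ih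
    induction e i with
    | zero => simp [mem_filt_zero]
    | succ k ihk => rw [pow_succ, Nat.succ_mul]; exact filt_mul P ihk (ha i)

theorem aug_pos_sub {e : K} (he : e ∈ P.pos) : P.aug (e - ((P.aug e).toNat : K)) = 0 := by
  rw [map_sub, map_natCast, Int.toNat_of_nonneg (P.aug_pos e he).le, sub_self]

variable {P}

theorem gamma_split {e : K} (he : e ∈ P.pos) {K' : Type u} [CommRing K'] [LambdaOps K'] {P' : PosStructure K'}
    {f : K →+* K'} (hf : IsExtension P P' f) {s : Multiset K'} (hsl : ∀ u ∈ s, P'.IsLine u)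
    (hsum : s.sum = f e) :
    Multiset.card s = (P.aug e).toNat ∧ (∀ i, f (LambdaOps.lam i e) = s.esymm i) ∧
      ∀ i, f (gamma i (e - ((P.aug e).toNat : K))) = (s.map (· - 1)).esymm i := by
  have hcard : Multiset.card s = (P.aug e).toNat := by
    rw [← hf.aug_comp]; exact card_eq_aug P' hsl hsum
  refine ⟨hcard, fun i => ?_, fun i => ?_⟩
  · rw [hf.isLambdaHom, ← hsum, lam_msum fun u hu => line_lam P' (hsl u hu)]
  · rw [map_gamma hf.isLambdaHom, map_sub, map_natCast, ← hsum, ← hcard]
    exact gamma_msum_sub_one (lam_one_eq_zero P') (fun u hu => line_lam P' (hsl u hu)) i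

/-- λ_{-1}(q) = (-1)^d γ^d(q - d). -/
theorem lamAlt_eq (hK : HasSplitting K P) {q : K} (hq : q ∈ P.pos) :
    (∑ i ∈ range ((P.aug q).toNat + 1), (-1 : K) ^ i * LambdaOps.lam i q) =
      (-1 : K) ^ (P.aug q).toNat * gamma (P.aug q).toNat (q - ((P.aug q).toNat : K)) := by
  obtain ⟨L, f, hf, hs⟩ := exists_split hK [q] (by simp [hq])
  obtain ⟨s, hsl, hsum⟩ := hs q (by simp)
  obtain ⟨hcard, hlam, hgam⟩ := gamma_split hq hf hsl hsum
  apply hf.injective
  simp only [map_sum, map_mul, map_pow, map_neg, map_one, hlam, hgam]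
  rw [← hcard]
  have htop : ∀ t : Multiset L.carrier, t.esymm (Multiset.card t) = t.prod := fun t => by
    simp [Multiset.esymm, Multiset.powersetCard_self]
  have h1 := htop (s.map (· - 1))
  rw [Multiset.card_map] at h1
  rw [h1]
  clear hsum hsl hgam hlam hcard h1
  have : ∀ s : Multiset L.carrier, ∀ n, Multiset.card s ≤ n →
      ∑ i ∈ range (n + 1), (-1 : L.carrier) ^ i * s.esymm i = (-1) ^ Multiset.card s * (s.map (· - 1)).prod := by
    intro s
    induction s using Multiset.induction with
    | empty =>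
      intro n _
      rw [Finset.sum_eq_single 0]
      · simp [Multiset.esymm]
      · intro i _ hi
        obtain ⟨j, rfl⟩ := Nat.exists_eq_succ_of_ne_zero hi
        simp [Multiset.esymm, Multiset.powersetCard_zero_right]
      · simp
    | cons a s ih =>
      intro n hn
      rw [Multiset.card_cons] at hn
      obtain ⟨n, rfl⟩ : ∃ k, n = k + 1 := ⟨n - 1, by omega⟩
      have hcons : ∀ i, (a ::ₘ s).esymm (i + 1) = s.esymm (i + 1) + a * s.esymm i := fun i => by
        simp [Multiset.esymm, Multiset.powersetCard_cons, Multiset.map_map, Multiset.sum_map_mul_left]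
      rw [Finset.sum_range_succ']
      simp only [hcons, pow_succ, mul_add, Finset.sum_add_distrib]
      have e1 := ih (n + 1) (by omega)
      rw [Finset.sum_range_succ'] at e1
      have e2 := ih n (by omega)
      have h0 : (a ::ₘ s).esymm 0 = s.esymm 0 := by simp [Multiset.esymm]
      rw [h0, Multiset.card_cons, Multiset.map_cons, Multiset.prod_cons]
      have e3 : ∑ i ∈ range (n + 1), (-1 : L.carrier) ^ i * -1 * (a * s.esymm i) =
          -a * ((-1) ^ Multiset.card s * (s.map (· - 1)).prod) := by
        rw [← e2, Finset.mul_sum]; exact Finset.sum_congr rfl fun i _ => by ring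
      simp only [pow_succ] at e1
      linear_combination e1 + e3
  exact this s _ le_rfl

variable (P) in
/-- Elements of F^r on which ψ^j acts as j^r modulo F^(r+1). -/
def Good (j r : ℕ) (z : K) : Prop :=
  z ∈ gammaFiltration P r ∧ adams P j z - (j : K) ^ r * z ∈ gammaFiltration P (r + 1)

theorem Good.add {j r : ℕ} {x y : K} (hx : Good P j r x) (hy : Good P j r y) : Good P j r (x + y) := by
  refine ⟨add_mem hx.1 hy.1, ?_⟩
  rw [← adamsHom_apply, map_add]
  have := add_mem hx.2 hy.2
  convert this using 1
  simp only [adamsHom_apply]; ring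

theorem Good.neg {j r : ℕ} {x : K} (hx : Good P j r x) : Good P j r (-x) := by
  refine ⟨neg_mem hx.1, ?_⟩
  rw [← adamsHom_apply, map_neg]
  have := neg_mem hx.2
  convert this using 1
  simp only [adamsHom_apply]; ring

theorem Good.zero (j r : ℕ) : Good P j r 0 := by
  refine ⟨zero_mem _, ?_⟩
  rw [← adamsHom_apply, map_zero]; simp

theorem Good.sum {j r : ℕ} {ι : Type*} (s : Finset ι) (f : ι → K) (h : ∀ i ∈ s, Good P j r (f i)) :
    Good P j r (∑ i ∈ s, f i) := by
  classical
  induction s using Finset.induction with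
  | empty => simpa using Good.zero j r
  | insert a s ha ih =>
    rw [Finset.sum_insert ha]
    exact (h a (Finset.mem_insert_self _ _)).add (ih fun i hi => h i (Finset.mem_insert_of_mem hi))

theorem Good.mul (hK : HasSplitting K P) {j r s : ℕ} {x y : K} (hx : Good P j r x) (hy : Good P j s y) :
    Good P j (r + s) (x * y) := by
  refine ⟨filt_mul P hx.1 hy.1, ?_⟩
  rw [adams_mul hK]
  have hpy : adams P j y ∈ gammaFiltration P s := by
    have := add_mem (filt_anti P (Nat.le_succ s) hy.2) (filt_ideal P ((j : K) ^ s) hy.1)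
    rwa [sub_add_cancel] at this
  have e1 := filt_mul P hx.2 hpy
  have e2 := filt_ideal P ((j : K) ^ r) (filt_mul P hx.1 hy.2)
  have := add_mem (show _ ∈ gammaFiltration P (r + s + 1) by rw [show r + s + 1 = r + 1 + s by omega]; exact e1)
    (show _ ∈ gammaFiltration P (r + s + 1) by rw [show r + s + 1 = r + (s + 1) by omega]; exact e2)
  convert this using 1
  ring

theorem Good.one (j : ℕ) : Good P j 0 1 := by
  refine ⟨mem_filt_zero P _, ?_⟩
  rw [adams_one, pow_zero, mul_one, sub_self]; exact zero_mem _

theorem Good.gamma_pos (hK : HasSplitting K P) (j r : ℕ) {e : K} (he : e ∈ P.pos) :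
    Good P j r (gamma r (e - ((P.aug e).toNat : K))) := by
  classical
  refine ⟨gamma_mem_filt P r (aug_pos_sub P he), ?_⟩
  obtain ⟨L, f, hf, hs⟩ := exists_split hK [e] (by simp [he])
  obtain ⟨s, hsl, hsum⟩ := hs e (by simp)
  obtain ⟨hcard, -, hgam⟩ := gamma_split he hf hsl hsum
  set m := Multiset.card s with hm
  -- enumerate the lines
  obtain ⟨l, rfl⟩ : ∃ l : List L.carrier, (l : Multiset L.carrier) = s := Quot.exists_rep s
  set m' := l.length with hm'
  set U : Fin m' → L.carrier := fun i => l.get i with hU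
  have huniv : ∀ g : L.carrier → L.carrier, ((l : Multiset L.carrier).map g) = (univ : Finset (Fin m')).val.map (fun i => g (U i)) := by
    intro g
    rw [Fin.univ_def]
    simp only [Multiset.map_coe, hU]
    congr 1
    conv_lhs => rw [← List.map_get_finRange l, List.map_map]
    rfl
  set G : Fin m' → MvPolynomial (Fin m') ℤ := fun i => (1 + MvPolynomial.X i) ^ j - 1 with hG
  set p : MvPolynomial (Fin m') ℤ := MvPolynomial.aeval G (MvPolynomial.esymm (Fin m') ℤ r) -
    (j : MvPolynomial (Fin m') ℤ) ^ r * MvPolynomial.esymm (Fin m') ℤ r with hp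
  have hsym : p.IsSymmetric := by
    intro σ
    rw [hp, map_sub, map_mul, map_pow, map_natCast, MvPolynomial.rename_esymm]
    congr 1
    have hcomm : (MvPolynomial.rename σ).comp (MvPolynomial.aeval G) =
        (MvPolynomial.aeval G).comp (MvPolynomial.rename σ) := by
      ext i; simp [hG]
    have := AlgHom.congr_fun hcomm (MvPolynomial.esymm (Fin m') ℤ r)
    simp only [AlgHom.comp_apply, MvPolynomial.rename_esymm] at this
    exact this
  have hlow : ∀ μ < r + 1, MvPolynomial.weightedHomogeneousComponent (fun _ : Fin m' => (1 : ℕ)) μ p = 0 := by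
    intro μ hμ
    -- p is a sum over r-element subsets of ∏((1+X)^j - 1) - j^r ∏ X
    have hdvd : ∀ i : Fin m', ∃ q : MvPolynomial (Fin m') ℤ,
        G i = MvPolynomial.X i * q ∧ MvPolynomial.constantCoeff q = (j : ℤ) := by
      intro i
      refine ⟨∑ a ∈ range j, (1 + MvPolynomial.X i) ^ a, ?_, ?_⟩
      · rw [hG]; exact ((mul_geom_sum (1 + MvPolynomial.X i) j).symm.trans (by ring))
      · simp
    choose q hq1 hq2 using hdvd
    have hp' : p = ∑ t ∈ (univ : Finset (Fin m')).powersetCard r,
        (∏ i ∈ t, MvPolynomial.X i) * ((∏ i ∈ t, q i) - (j : MvPolynomial (Fin m') ℤ) ^ r) := by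
      rw [hp, MvPolynomial.esymm, map_sum, Finset.mul_sum, ← Finset.sum_sub_distrib]
      refine Finset.sum_congr rfl fun t _ => ?_
      rw [map_prod, mul_sub, ← Finset.prod_mul_distrib, mul_comm ((j : MvPolynomial (Fin m') ℤ) ^ r)]
      simp [hq1]
    rw [hp', map_sum]
    refine Finset.sum_eq_zero fun t ht => ?_
    rw [Finset.mem_powersetCard] at ht
    set c := (∏ i ∈ t, q i) - (j : MvPolynomial (Fin m') ℤ) ^ r with hc
    have hc0 : MvPolynomial.constantCoeff c = 0 := by
      rw [hc, map_sub, map_prod, map_pow, map_natCast, Finset.prod_congr rfl (fun i _ => hq2 i),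
        Finset.prod_const, ht.2, sub_self]
    rw [show (∏ i ∈ t, MvPolynomial.X i : MvPolynomial (Fin m') ℤ) = MvPolynomial.monomial (∑ i ∈ t, Finsupp.single i 1) 1 by rw [MvPolynomial.monomial_sum_one]; rfl]
    ext d
    rw [MvPolynomial.coeff_weightedHomogeneousComponent, MvPolynomial.coeff_zero]
    split_ifs with hd
    · rw [MvPolynomial.coeff_monomial_mul']
      split_ifs with hle
      · have hw : Finsupp.weight (fun _ : Fin m' => (1 : ℕ)) (∑ i ∈ t, Finsupp.single i 1) = r := by
          rw [map_sum, Finset.sum_congr rfl (fun i _ => Finsupp.weight_single _ i 1)]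
          simp [ht.2]
        have h2 : Finsupp.weight (fun _ : Fin m' => (1 : ℕ)) (d - ∑ i ∈ t, Finsupp.single i 1) + r = μ := by
          rw [← hd, ← hw, ← map_add, tsub_add_cancel_of_le hle]
        have h3 : Finsupp.weight (fun _ : Fin m' => (1 : ℕ)) (d - ∑ i ∈ t, Finsupp.single i 1) = 0 := by omega
        have h4 : (d - ∑ i ∈ t, Finsupp.single i 1) = 0 := by
          ext i
          have := Finsupp.le_weight (fun _ : Fin m' => (1 : ℕ)) (s := i) one_ne_zero (d - ∑ i ∈ t, Finsupp.single i 1)
          rw [h3] at this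
          simpa using Nat.le_zero.mp this
        rw [h4, one_mul]
        exact hc0
      · rfl
    · rfl
  obtain ⟨Q, hQ, hQw⟩ := exists_esymm_weight_ge hsym (r + 1) hlow
  have key : adams P j (gamma r (e - ((P.aug e).toNat : K))) -
      (j : K) ^ r * gamma r (e - ((P.aug e).toNat : K)) =
      MvPolynomial.aeval (fun k : Fin m' => gamma ((k : ℕ) + 1) (e - ((P.aug e).toNat : K))) Q := by
    apply hf.injective
    set v : Fin m' → L.carrier := fun i => U i - 1 with hv
    have hgam' : ∀ i, f (gamma i (e - ((P.aug e).toNat : K))) =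
        MvPolynomial.aeval v (MvPolynomial.esymm (Fin m') ℤ i) := by
      intro i
      rw [hgam, MvPolynomial.aeval_esymm_eq_multiset_esymm, huniv]
    have hpsi : f (adams P j (gamma r (e - ((P.aug e).toNat : K)))) =
        MvPolynomial.aeval v (MvPolynomial.aeval G (MvPolynomial.esymm (Fin m') ℤ r)) := by
      rw [map_adams hf, hgam' r, MvPolynomial.esymm, map_sum, ← adamsHom_apply, map_sum, map_sum, map_sum]
      refine Finset.sum_congr rfl fun t _ => ?_
      simp only [map_prod, MvPolynomial.aeval_X, adamsHom_apply, hG, map_sub, map_pow, map_add, map_one, hv,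
        add_sub_cancel]
      have hl : ∀ i, L.posStr.IsLine (U i) := fun i => hsl _ (by simp [hU])
      -- ψ is multiplicative on products of (line - 1)
      rw [Finset.prod_congr rfl (fun i _ => (sub_eq_add_neg (U i) 1))]
      simp only [Finset.prod_add, ← adamsHom_apply, map_sum]
      rw [Finset.prod_congr rfl (fun i _ => (sub_eq_add_neg (U i ^ j) 1)), Finset.prod_add]
      refine Finset.sum_congr rfl fun a _ => ?_
      simp only [Finset.prod_const]
      rw [← Int.cast_one (R := L.carrier), ← Int.cast_neg, ← Int.cast_pow, mul_comm, ← zsmul_eq_mul,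
        map_zsmul, adamsHom_apply, zsmul_eq_mul]
      have hline : L.posStr.IsLine (∏ i ∈ a, U i) :=
        Finset.prod_induction _ L.posStr.IsLine (fun _ _ => isLine_mul _) (isLine_one _) fun i _ => hl i
      rw [adams_line _ hline, ← Finset.prod_pow, mul_comm]
    rw [map_sub, map_mul, map_pow, map_natCast, hpsi, hgam' r]
    have : MvPolynomial.aeval v p = f (MvPolynomial.aeval (fun k : Fin m' => gamma ((k : ℕ) + 1) (e - ((P.aug e).toNat : K))) Q) := by
      rw [← hQ, MvPolynomial.map_aeval, ← AlgHom.comp_apply, MvPolynomial.comp_aeval]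
      rw [MvPolynomial.aeval_def, MvPolynomial.coe_eval₂Hom]
      congr 1
      · exact RingHom.ext_int _ _
      · funext k; rw [hgam']; rfl
    rw [← this, hp, map_sub, map_mul, map_pow, map_natCast]
  rw [key, Q.as_sum, map_sum]
  refine sum_mem fun d hd => ?_
  rw [MvPolynomial.aeval_monomial]
  refine filt_ideal P _ (filt_anti P (hQw d hd) ?_)
  rw [Finsupp.weight_apply, Finsupp.prod, Finsupp.sum]
  simp only [smul_eq_mul]
  exact prod_pow_mem_filt P _ _ _ _ fun k => gamma_mem_filt P _ (aug_pos_sub P he)

theorem Good.gamma_neg_pos (hK : HasSplitting K P) (j : ℕ) {e : K} (he : e ∈ P.pos) :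
    ∀ r, Good P j r (gamma r (-(e - ((P.aug e).toNat : K)))) := by
  intro r
  induction r using Nat.strong_induction_on with
  | _ r ih =>
  rcases Nat.eq_zero_or_pos r with rfl | hr
  · rw [gamma_zero]; exact Good.one j
  obtain ⟨k, rfl⟩ : ∃ k, r = k + 1 := ⟨r - 1, by omega⟩
  have h := gamma_add' (k + 1) (e - ((P.aug e).toNat : K)) (-(e - ((P.aug e).toNat : K)))
  have h0 : gamma (k + 1) (0 : K) = 0 := by
    rw [← coeff_gammaSeries, gammaSeries_zero, PowerSeries.coeff_one, if_neg (Nat.succ_ne_zero k)]
  rw [add_neg_cancel, h0, Finset.sum_range_succ', gamma_zero, one_mul, Nat.sub_zero] at h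
  rw [eq_neg_of_add_eq_zero_right h.symm]
  refine Good.neg (Good.sum _ _ fun i hi => ?_)
  rw [Finset.mem_range] at hi
  have := (Good.gamma_pos hK j (i + 1) he).mul hK (ih (k + 1 - (i + 1)) (by omega))
  rwa [show i + 1 + (k + 1 - (i + 1)) = k + 1 by omega] at this

theorem Good.gamma (hK : HasSplitting K P) (j r : ℕ) {x : K} (hx : P.aug x = 0) :
    Good P j r (LambdaRing.gamma r x) := by
  obtain ⟨e, e', he, he', rfl⟩ := P.exists_sub x
  have heq : P.aug e = P.aug e' := by rwa [map_sub, sub_eq_zero] at hx
  rw [show e - e' = (e - ((P.aug e).toNat : K)) + -(e' - ((P.aug e').toNat : K)) by rw [heq]; ring, gamma_add']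
  refine Good.sum _ _ fun i hi => ?_
  rw [Finset.mem_range] at hi
  have := (Good.gamma_pos hK j i he).mul hK (Good.gamma_neg_pos hK j he' (r - i))
  rwa [show i + (r - i) = r by omega] at this

theorem adams_sub_mem (hK : HasSplitting K P) (j n : ℕ) {x : K} (hx : x ∈ gammaFiltration P n) :
    adams P j x - (j : K) ^ n * x ∈ gammaFiltration P (n + 1) := by
  rcases Nat.eq_zero_or_pos n with rfl | hn
  · have hcast : adams P j (P.aug x : K) = (P.aug x : K) := by
      rw [← adamsRingHom_apply hK, map_intCast]
    have h1 := (Good.gamma hK j 1 (x := x - (P.aug x : K)) (by simp))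
    rw [gamma_one] at h1
    have h2 : adams P j (x - (P.aug x : K)) ∈ gammaFiltration P 1 := by
      have := add_mem (filt_anti P (by omega : 1 ≤ 1 + 1) h1.2) (filt_ideal P ((j : K) ^ 1) h1.1)
      rwa [sub_add_cancel] at this
    have := sub_mem h2 h1.1
    rw [pow_zero, one_mul]
    convert this using 1
    rw [← adamsHom_apply, ← adamsHom_apply, map_sub, adamsHom_apply, adamsHom_apply, hcast]; ring
  suffices H : Good P j n x from H.2
  refine filt_induction P hn ?_ (Good.zero j n) (fun a b ha hb => ha.add hb) (fun a ha => ha.neg) hx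
  rintro y ⟨l, hl, hs, rfl⟩
  have hg : ∀ l : List (ℕ × K), (∀ p ∈ l, P.aug p.2 = 0) →
      Good P j (l.map Prod.fst).sum (l.map fun p => LambdaRing.gamma p.1 p.2).prod := by
    intro l
    induction l with
    | nil => exact fun _ => Good.one j
    | cons a l ih =>
      intro h
      simp only [List.map_cons, List.sum_cons, List.prod_cons]
      exact (Good.gamma hK j a.1 (h a (by simp))).mul hK (ih fun p hp => h p (List.mem_cons_of_mem _ hp))
  obtain ⟨h1, h2⟩ := hg l hl
  rcases eq_or_lt_of_le hs with hs | hs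
  · rw [← hs] at h1 h2; exact ⟨h1, h2⟩
  · have h1' := filt_anti P hs h1
    have h3 : adams P j (l.map fun p => LambdaRing.gamma p.1 p.2).prod ∈ gammaFiltration P (n + 1) := by
      have := add_mem (filt_anti P (by omega : n + 1 ≤ (l.map Prod.fst).sum + 1) h2) (filt_ideal P ((j : K) ^ (l.map Prod.fst).sum) h1')
      rwa [sub_add_cancel] at this
    exact ⟨filt_anti P (Nat.le_succ n) h1', sub_mem h3 (filt_ideal P _ h1')⟩

end Groth.Agent.Lambda37
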