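import Groth.Agent.Lambda37.Filt
import Mathlib.RingTheory.TensorProduct.Maps
import Mathlib.LinearAlgebra.Eigenspace.Basic
import Mathlib.Algebra.Polynomial.Derivative
import Mathlib.Data.Rat.Cast.Order

set_option autoImplicit false

universe u

open scoped TensorProduct

namespace Groth.Agent.Lambda37

open LambdaRing Finset

variable {K : Type u} [CommRing K] [LambdaOps K] {P : PosStructure K}

/-- The rational span of the n-th step of the γ-filtration. -/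
noncomputable def qFilt (P : PosStructure K) (n : ℕ) : Submodule ℚ (ℚ ⊗[ℤ] K) :=
  Submodule.span ℚ ((fun x : K => (1 : ℚ) ⊗ₜ[ℤ] x) '' (gammaFiltration P n : Set K))

theorem qFilt_zero : qFilt P 0 = ⊤ := by
  rw [eq_top_iff]
  intro v _
  induction v using TensorProduct.induction_on with
  | zero => exact zero_mem _
  | tmul q x =>
    rw [show q ⊗ₜ[ℤ] x = q • ((1 : ℚ) ⊗ₜ[ℤ] x) by rw [TensorProduct.smul_tmul', smul_eq_mul, mul_one]]
    exact Submodule.smul_mem _ _ (Submodule.subset_span ⟨x, mem_filt_zero P x, rfl⟩)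
  | add a b ha hb => exact add_mem (ha trivial) (hb trivial)

theorem qFilt_anti {m n : ℕ} (h : m ≤ n) : qFilt P n ≤ qFilt P m :=
  Submodule.span_mono (Set.image_mono (filt_anti P h))

theorem qFilt_bot {d : ℕ} (hd : gammaFiltration P (d + 1) = ⊥) {n : ℕ} (hn : d + 1 ≤ n) :
    qFilt P n = ⊥ := by
  rw [eq_bot_iff, qFilt, Submodule.span_le]
  rintro _ ⟨x, hx, rfl⟩
  have hx' := filt_anti P hn hx
  rw [hd, AddSubgroup.mem_bot] at hx'
  simp [hx']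

theorem sub_smul_mem (hK : HasSplitting K P) {j : ℕ} (Ψ : ℚ ⊗[ℤ] K →ₗ[ℚ] ℚ ⊗[ℤ] K)
    (hΨ : ∀ x : K, Ψ (1 ⊗ₜ[ℤ] x) = 1 ⊗ₜ[ℤ] adams P j x) {n : ℕ} {v : ℚ ⊗[ℤ] K}
    (hv : v ∈ qFilt P n) : Ψ v - ((j : ℚ) ^ n) • v ∈ qFilt P (n + 1) := by
  have hle : qFilt P n ≤ (qFilt P (n + 1)).comap (Ψ - ((j : ℚ) ^ n) • LinearMap.id) := by
    rw [qFilt, Submodule.span_le]
    rintro _ ⟨x, hx, rfl⟩
    simp only [SetLike.mem_coe, Submodule.mem_comap, LinearMap.sub_apply, LinearMap.smul_apply,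
      LinearMap.id_apply, hΨ]
    refine Submodule.subset_span ⟨adams P j x - (j : K) ^ n * x, adams_sub_mem hK j n hx, ?_⟩
    simp only [TensorProduct.tmul_sub]
    congr 1
    rw [← Nat.cast_pow, ← Nat.cast_pow, ← nsmul_eq_mul, Nat.cast_smul_eq_nsmul,
      TensorProduct.tmul_smul]
  exact hle hv

omit [LambdaOps K] in
theorem mem_eigen_iff {Ψ : ℚ ⊗[ℤ] K →ₗ[ℚ] ℚ ⊗[ℤ] K} {c : ℚ} {v : ℚ ⊗[ℤ] K} :
    v ∈ Module.End.eigenspace Ψ c ↔ Ψ v = c • v := Module.End.mem_eigenspace_iff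

variable {j : ℕ} {Ψ : ℚ ⊗[ℤ] K →ₗ[ℚ] ℚ ⊗[ℤ] K}

theorem pow_ne (hj : 2 ≤ j) {a b : ℕ} (h : a ≠ b) : (j : ℚ) ^ a ≠ (j : ℚ) ^ b := by
  intro he
  exact h (Nat.pow_right_injective hj (by exact_mod_cast he))

theorem climb (hK : HasSplitting K P) (hj : 2 ≤ j) (hΨ : ∀ x : K, Ψ (1 ⊗ₜ[ℤ] x) = 1 ⊗ₜ[ℤ] adams P j x)
    {i n : ℕ} (hne : i ≠ n) {v : ℚ ⊗[ℤ] K} (hv : v ∈ Module.End.eigenspace Ψ ((j : ℚ) ^ i))
    (hn : v ∈ qFilt P n) : v ∈ qFilt P (n + 1) := by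
  have h := sub_smul_mem hK Ψ hΨ hn
  rw [mem_eigen_iff.mp hv, ← sub_smul] at h
  exact (Submodule.smul_mem_iff _ (sub_ne_zero.mpr (pow_ne hj hne))).mp h

theorem eigen_le (hK : HasSplitting K P) (hj : 2 ≤ j) (hΨ : ∀ x : K, Ψ (1 ⊗ₜ[ℤ] x) = 1 ⊗ₜ[ℤ] adams P j x)
    (i : ℕ) : Module.End.eigenspace Ψ ((j : ℚ) ^ i) ≤ qFilt P i := by
  intro v hv
  have : ∀ n ≤ i, v ∈ qFilt P n := by
    intro n
    induction n with
    | zero => intro _; rw [qFilt_zero]; trivial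
    | succ n ih => intro h; exact climb hK hj hΨ (by omega) hv (ih (by omega))
  exact this i le_rfl

theorem eigen_inf (hK : HasSplitting K P) {d : ℕ} (hd : gammaFiltration P (d + 1) = ⊥) (hj : 2 ≤ j)
    (hΨ : ∀ x : K, Ψ (1 ⊗ₜ[ℤ] x) = 1 ⊗ₜ[ℤ] adams P j x) {i : ℕ} {v : ℚ ⊗[ℤ] K}
    (hv : v ∈ Module.End.eigenspace Ψ ((j : ℚ) ^ i)) (hn : v ∈ qFilt P (i + 1)) : v = 0 := by
  have : ∀ k, v ∈ qFilt P (i + 1 + k) := by
    intro k
    induction k with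
    | zero => exact hn
    | succ k ih => exact climb hK hj hΨ (show i ≠ i + 1 + k by omega) hv ih
  have h := this (d + 1)
  rw [qFilt_bot hd (by omega), Submodule.mem_bot] at h
  exact h

theorem qFilt_le_iSup (hK : HasSplitting K P) {d : ℕ} (hd : gammaFiltration P (d + 1) = ⊥) (hj : 2 ≤ j)
    (hΨ : ∀ x : K, Ψ (1 ⊗ₜ[ℤ] x) = 1 ⊗ₜ[ℤ] adams P j x) (n : ℕ) :
    qFilt P n ≤ ⨆ i ∈ Finset.Ico n (d + 1), Module.End.eigenspace Ψ ((j : ℚ) ^ i) := by
  induction hk : d + 1 - n generalizing n with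
  | zero => rw [qFilt_bot hd (by omega)]; exact bot_le
  | succ k ih =>
    intro v hv
    set S := fun s : Finset ℕ => ⨆ i ∈ s, Module.End.eigenspace Ψ ((j : ℚ) ^ i)
    have hlt : S (Finset.Ico (n + 1) (d + 1)) ≤ (S (Finset.Ico (n + 1) (d + 1))).map (Ψ - ((j : ℚ) ^ n) • LinearMap.id) := by
      refine iSup₂_le fun i hi w hw => ?_
      have hni : i ≠ n := by rw [Finset.mem_Ico] at hi; omega
      refine ⟨((j : ℚ) ^ i - (j : ℚ) ^ n)⁻¹ • w, Submodule.smul_mem _ _ (le_biSup (fun i => Module.End.eigenspace Ψ ((j : ℚ) ^ i)) hi hw), ?_⟩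
      simp only [LinearMap.sub_apply, LinearMap.smul_apply, LinearMap.id_apply, map_smul, mem_eigen_iff.mp hw]
      rw [← sub_smul, smul_smul, inv_mul_cancel₀ (sub_ne_zero.mpr (pow_ne hj hni)), one_smul]
    have h1 := sub_smul_mem hK Ψ hΨ hv
    obtain ⟨w, hw, hwv⟩ := hlt (ih (n + 1) (by omega) h1)
    have hwS : w ∈ S (Finset.Ico n (d + 1)) :=
      (biSup_mono (f := fun i => Module.End.eigenspace Ψ ((j : ℚ) ^ i))
      (p := fun i => i ∈ Finset.Ico (n + 1) (d + 1)) (q := fun i => i ∈ Finset.Ico n (d + 1))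
      fun i hi => by rw [Finset.mem_Ico] at hi ⊢; omega) hw
    have hd' : v - w ∈ S (Finset.Ico n (d + 1)) := by
      refine le_biSup (fun i => Module.End.eigenspace Ψ ((j : ℚ) ^ i)) (show n ∈ Finset.Ico n (d + 1) by rw [Finset.mem_Ico]; omega) ?_
      rw [mem_eigen_iff, map_sub, smul_sub]
      simp only [LinearMap.sub_apply, LinearMap.smul_apply, LinearMap.id_apply] at hwv
      rw [sub_eq_sub_iff_sub_eq_sub]
      exact hwv.symm
    have := add_mem hd' hwS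
    rwa [sub_add_cancel] at this

theorem sup_eq (hK : HasSplitting K P) {d : ℕ} (hd : gammaFiltration P (d + 1) = ⊥) (hj : 2 ≤ j)
    (hΨ : ∀ x : K, Ψ (1 ⊗ₜ[ℤ] x) = 1 ⊗ₜ[ℤ] adams P j x) (m : ℕ) :
    Module.End.eigenspace Ψ ((j : ℚ) ^ m) ⊔ qFilt P (m + 1) = qFilt P m := by
  refine le_antisymm (sup_le (eigen_le hK hj hΨ m) (qFilt_anti (Nat.le_succ m))) ?_
  refine (qFilt_le_iSup hK hd hj hΨ m).trans (iSup₂_le fun i hi => ?_)
  rw [Finset.mem_Ico] at hi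
  rcases eq_or_lt_of_le hi.1 with rfl | h
  · exact le_sup_left
  · exact ((eigen_le hK hj hΨ i).trans (qFilt_anti h)).trans le_sup_right

theorem eigen_indep (hK : HasSplitting K P) {d : ℕ} (hd : gammaFiltration P (d + 1) = ⊥)
    {l : ℕ} {Ψl : ℚ ⊗[ℤ] K →ₗ[ℚ] ℚ ⊗[ℤ] K} (hj : 2 ≤ j)
    (hΨ : ∀ x : K, Ψ (1 ⊗ₜ[ℤ] x) = 1 ⊗ₜ[ℤ] adams P j x)
    (hΨl : ∀ x : K, Ψl (1 ⊗ₜ[ℤ] x) = 1 ⊗ₜ[ℤ] adams P l x) (m : ℕ) :
    Module.End.eigenspace Ψ ((j : ℚ) ^ m) ≤ Module.End.eigenspace Ψl ((l : ℚ) ^ m) := by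
  intro v hv
  have hcomm : ∀ w, Ψ (Ψl w) = Ψl (Ψ w) := by
    intro w
    induction w using TensorProduct.induction_on with
    | zero => simp
    | add a b ha hb => simp only [map_add, ha, hb]
    | tmul q x =>
      rw [show q ⊗ₜ[ℤ] x = q • ((1 : ℚ) ⊗ₜ[ℤ] x) by rw [TensorProduct.smul_tmul', smul_eq_mul, mul_one]]
      simp only [map_smul, hΨ, hΨl, adams_adams hK, mul_comm j l]
  rw [mem_eigen_iff, ← sub_eq_zero]
  refine eigen_inf hK hd hj hΨ (i := m) ?_ (sub_smul_mem hK Ψl hΨl (eigen_le hK hj hΨ m hv))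
  rw [mem_eigen_iff, map_sub, map_smul, hcomm, mem_eigen_iff.mp hv, map_smul, smul_sub, smul_comm]

theorem qFilt_mem_tmul (q : ℚ) {n : ℕ} {x : K} (hx : x ∈ gammaFiltration P n) :
    q ⊗ₜ[ℤ] x ∈ qFilt P n := by
  rw [show q ⊗ₜ[ℤ] x = q • ((1 : ℚ) ⊗ₜ[ℤ] x) by rw [TensorProduct.smul_tmul', smul_eq_mul, mul_one]]
  exact Submodule.smul_mem _ _ (Submodule.subset_span ⟨x, hx, rfl⟩)

section Log

open Polynomial

/-- The truncated logarithm of `1 + X`. -/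
noncomputable def logPoly (d : ℕ) : ℚ[X] :=
  ∑ n ∈ range (d + 1), Polynomial.C ((-1 : ℚ) ^ n / ((n : ℚ) + 1)) * Polynomial.X ^ (n + 1)

theorem derivative_logPoly (d : ℕ) : derivative (logPoly d) = ∑ n ∈ range (d + 1), (-Polynomial.X : ℚ[X]) ^ n := by
  rw [logPoly, derivative_sum]
  refine Finset.sum_congr rfl fun n _ => ?_
  rw [derivative_C_mul, derivative_X_pow, ← mul_assoc, ← Polynomial.C_mul]
  rw [show ((-1 : ℚ) ^ n / ((n : ℚ) + 1)) * ((n + 1 : ℕ) : ℚ) = (-1) ^ n by push_cast; field_simp]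
  rw [Nat.add_sub_cancel, neg_pow (Polynomial.X : ℚ[X]) n]
  simp

/-- `log ((1+X)^j) ≡ j log (1+X)` modulo `X^(d+1)`. -/
theorem logPoly_comp (d j : ℕ) :
    (Polynomial.X : ℚ[X]) ^ (d + 1) ∣ (logPoly d).comp ((1 + Polynomial.X) ^ j - 1) - (j : ℚ[X]) * logPoly d := by
  set Y : ℚ[X] := (1 + Polynomial.X) ^ j - 1 with hY
  set p : ℚ[X] := (logPoly d).comp Y - (j : ℚ[X]) * logPoly d with hp
  have hY0 : (Polynomial.X : ℚ[X]) ∣ Y := by
    rw [Polynomial.X_dvd_iff, Polynomial.coeff_zero_eq_eval_zero]; simp [hY]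
  have hgeom : ∀ Z : ℚ[X], (1 + Z) * ∑ n ∈ range (d + 1), (-Z) ^ n = 1 - (-Z) ^ (d + 1) := fun Z => by
    rw [show 1 + Z = 1 - -Z by ring]; exact mul_neg_geom_sum (-Z) (d + 1)
  have hdY : (1 + Polynomial.X) * derivative Y = (j : ℚ[X]) * (1 + Y) := by
    rw [hY, derivative_sub, derivative_one, sub_zero, derivative_pow, derivative_add, derivative_one,
      derivative_X, zero_add, mul_one, add_sub_cancel, map_natCast]
    rcases j with _ | j
    · simp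
    · rw [Nat.add_sub_cancel, pow_succ]; ring
  have hkey : (Polynomial.X : ℚ[X]) ^ (d + 1) ∣ (1 + Polynomial.X) * derivative p := by
    have : (1 + Polynomial.X) * derivative p =
        (j : ℚ[X]) * ((-Polynomial.X) ^ (d + 1) - (-Y) ^ (d + 1)) := by
      rw [hp, derivative_sub, derivative_comp, derivative_mul, derivative_natCast, derivative_logPoly]
      rw [Polynomial.sum_comp]
      simp only [pow_comp, neg_comp, X_comp, zero_mul, zero_add]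
      linear_combination (∑ n ∈ range (d + 1), (-Y) ^ n) * hdY + (j : ℚ[X]) * hgeom Y -
        (j : ℚ[X]) * hgeom Polynomial.X
    rw [this]
    refine Dvd.dvd.mul_left (dvd_sub (pow_dvd_pow_of_dvd (dvd_neg.mpr dvd_rfl) _) (pow_dvd_pow_of_dvd (dvd_neg.mpr hY0) _)) _
  rw [Polynomial.X_pow_dvd_iff] at hkey ⊢
  intro k
  induction k using Nat.strong_induction_on with
  | _ k ih =>
  intro hk
  rcases Nat.eq_zero_or_pos k with rfl | hk0
  · rw [hp, Polynomial.coeff_zero_eq_eval_zero]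
    simp [hY, logPoly, Polynomial.eval_finsetSum]
  obtain ⟨i, rfl⟩ : ∃ i, k = i + 1 := ⟨k - 1, by omega⟩
  have h := hkey i (by omega)
  rw [add_mul, one_mul, coeff_add, coeff_derivative] at h
  rcases i with _ | i
  · rw [Polynomial.coeff_X_mul_zero, add_zero] at h
    simpa using h
  · rw [coeff_X_mul, coeff_derivative, ih (i + 1) (by omega) (by omega), zero_mul, add_zero] at h
    rcases mul_eq_zero.mp h with h | h
    · exact h
    · exfalso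
      have : (0 : ℚ) < ((i + 1 : ℕ) : ℚ) + 1 := by positivity
      linarith

theorem sub_one_pow_mem {u : K} (hu : P.IsLine u) (n : ℕ) : (u - 1) ^ n ∈ gammaFiltration P n := by
  induction n with
  | zero => exact mem_filt_zero P _
  | succ n ih => rw [pow_succ]; exact filt_mul P ih (mem_filt_one_of_aug P (by rw [map_sub, hu.2, map_one, sub_self]))

theorem log_line (hK : HasSplitting K P) {d : ℕ} (hd : gammaFiltration P (d + 1) = ⊥)
    (hΨ : ∀ x : K, Ψ (1 ⊗ₜ[ℤ] x) = 1 ⊗ₜ[ℤ] adams P j x) {u : K} (hu : P.IsLine u) :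
    (∑ n ∈ range (d + 1), ((-1 : ℚ) ^ n / ((n : ℚ) + 1)) ⊗ₜ[ℤ] ((u - 1) ^ (n + 1))) ∈
      Module.End.eigenspace Ψ (j : ℚ) := by
  set w : ℚ ⊗[ℤ] K := (1 : ℚ) ⊗ₜ[ℤ] (u - 1) with hw
  have hone : (1 : ℚ) ⊗ₜ[ℤ] (1 : K) = (1 : ℚ ⊗[ℤ] K) := rfl
  have hterm : ∀ (c : ℚ) (x : K) (i : ℕ), c ⊗ₜ[ℤ] (x ^ i) = c • (((1 : ℚ) ⊗ₜ[ℤ] x) ^ i) := fun c x i => by
    rw [Algebra.TensorProduct.tmul_pow, one_pow, TensorProduct.smul_tmul', smul_eq_mul, mul_one]
  have hwd : w ^ (d + 1) = 0 := by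
    have h := sub_one_pow_mem hu (d + 1)
    rw [hd, AddSubgroup.mem_bot] at h
    rw [hw, Algebra.TensorProduct.tmul_pow, h, TensorProduct.tmul_zero]
  have hL : (∑ n ∈ range (d + 1), ((-1 : ℚ) ^ n / ((n : ℚ) + 1)) ⊗ₜ[ℤ] ((u - 1) ^ (n + 1))) =
      Polynomial.aeval w (logPoly d) := by
    rw [logPoly, map_sum]
    refine Finset.sum_congr rfl fun n _ => ?_
    rw [map_mul, Polynomial.aeval_C, map_pow, Polynomial.aeval_X, ← Algebra.smul_def, hterm, hw]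
  rw [mem_eigen_iff, hL]
  conv_lhs => rw [← hL, map_sum]
  have h0 : Polynomial.aeval w ((logPoly d).comp ((1 + Polynomial.X) ^ j - 1) - (j : ℚ[X]) * logPoly d) = 0 := by
    obtain ⟨r, hr⟩ := logPoly_comp d j
    rw [hr, map_mul, map_pow, Polynomial.aeval_X, hwd, zero_mul]
  rw [map_sub, map_mul, map_natCast, Polynomial.aeval_comp, sub_eq_zero] at h0
  rw [Nat.cast_smul_eq_nsmul, nsmul_eq_mul, ← h0, logPoly, map_sum]
  refine Finset.sum_congr rfl fun n _ => ?_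
  have hu1 : (1 : ℚ) ⊗ₜ[ℤ] (u ^ j - 1) = Polynomial.aeval w ((1 + Polynomial.X : ℚ[X]) ^ j - 1) := by
    rw [map_sub, map_pow, map_add, map_one, Polynomial.aeval_X, hw, TensorProduct.tmul_sub, hone,
      TensorProduct.tmul_sub, hone, add_sub_cancel, Algebra.TensorProduct.tmul_pow, one_pow]
  rw [map_mul, Polynomial.aeval_C, map_pow, Polynomial.aeval_X, ← Algebra.smul_def, hterm, map_smul,
    ← hu1]
  congr 1
  rw [Algebra.TensorProduct.tmul_pow, Algebra.TensorProduct.tmul_pow, one_pow, hΨ]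
  congr 1
  rw [← adamsRingHom_apply hK, map_pow, map_sub, map_one, adamsRingHom_apply, adams_line P hu]

end Log

end Groth.Agent.Lambda37
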