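import Groth.Agent.Lambda37.Filt
import Groth.Prelude.Def_W4bkmilneecrracsp2Inv

set_option autoImplicit false

universe u

namespace Groth.Agent.Lambda37

open LambdaRing Finset

variable {L : Type u} [CommRing L]

theorem esymm_cons (a : L) (s : Multiset L) (k : ℕ) :
    (a ::ₘ s).esymm (k + 1) = s.esymm (k + 1) + a * s.esymm k := by
  simp [Multiset.esymm, Multiset.powersetCard_cons, Multiset.map_map, Multiset.sum_map_mul_left]

theorem esymm_zero' (s : Multiset L) : s.esymm 0 = 1 := by simp [Multiset.esymm]

theorem esymm_card (s : Multiset L) : s.esymm (Multiset.card s) = s.prod := by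
  simp [Multiset.esymm, Multiset.powersetCard_self]

theorem esymm_of_lt (s : Multiset L) {k : ℕ} (h : Multiset.card s < k) : s.esymm k = 0 := by
  simp [Multiset.esymm, Multiset.powersetCard_eq_empty k h]

theorem esymm_map_inv (f : L → L) : ∀ (s : Multiset L), (∀ u ∈ s, f u * u = 1) → ∀ k ≤ Multiset.card s,
    (s.map f).esymm k * s.prod = s.esymm (Multiset.card s - k) := by
  intro s
  induction s using Multiset.induction with
  | empty => intro _ k hk; simp at hk; subst hk; simp [esymm_zero']
  | cons a s ih =>
    intro h k hk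
    have ha := h a (Multiset.mem_cons_self _ _)
    have ih' := ih fun u hu => h u (Multiset.mem_cons_of_mem hu)
    rw [Multiset.card_cons] at hk ⊢
    rw [Multiset.map_cons, Multiset.prod_cons]
    rcases k with _ | k
    · rw [esymm_zero', one_mul, Nat.sub_zero, ← Multiset.card_cons a s, esymm_card, Multiset.prod_cons]
    · rw [esymm_cons, Nat.add_sub_add_right]
      rcases Nat.lt_or_ge k (Multiset.card s) with hlt | hge
      · have h1 := ih' (k + 1) hlt
        have h2 := ih' k hlt.le
        obtain ⟨r, hr⟩ : ∃ r, Multiset.card s - k = r + 1 := ⟨Multiset.card s - k - 1, by omega⟩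
        rw [show Multiset.card s - (k + 1) = r by omega] at h1
        rw [hr] at h2 ⊢
        rw [esymm_cons]
        linear_combination a * h1 + h2 + ((s.map f).esymm k * s.prod) * ha
      · obtain rfl : k = Multiset.card s := by omega
        rw [esymm_of_lt _ (by rw [Multiset.card_map]; omega), Nat.sub_self, esymm_zero', zero_add]
        have h2 := ih' (Multiset.card s) le_rfl
        rw [Nat.sub_self, esymm_zero'] at h2
        linear_combination h2 + ((s.map f).esymm (Multiset.card s) * s.prod) * ha

theorem esymm_inv (f : L → L) (s : Multiset L) (h : ∀ u ∈ s, f u * u = 1) (i : ℕ)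
    (hi : i ≤ Multiset.card s) :
    s.esymm i = (s.map f).esymm (Multiset.card s - i) * s.esymm (Multiset.card s) := by
  rw [esymm_card, esymm_map_inv f s h _ (Nat.sub_le _ _), Nat.sub_sub_self hi]

theorem alt_sum (s : Multiset L) : ∀ N, Multiset.card s ≤ N →
    ∑ i ∈ range (N + 1), (-1 : L) ^ i * s.esymm i = (s.map (1 - ·)).prod := by
  induction s using Multiset.induction with
  | empty =>
    intro N _
    rw [Finset.sum_eq_single 0]
    · simp [esymm_zero']
    · intro i _ hi; rw [esymm_of_lt _ (by simpa using Nat.pos_of_ne_zero hi), mul_zero]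
    · simp
  | cons a s ih =>
    intro N hN
    rw [Multiset.card_cons] at hN
    obtain ⟨N, rfl⟩ : ∃ k, N = k + 1 := ⟨N - 1, by omega⟩
    rw [Multiset.map_cons, Multiset.prod_cons, Finset.sum_range_succ', esymm_zero']
    simp only [esymm_cons, mul_add, Finset.sum_add_distrib]
    have e1 := ih (N + 1) (by omega)
    rw [Finset.sum_range_succ', esymm_zero'] at e1
    have e2 : ∑ i ∈ range (N + 1), (-1 : L) ^ (i + 1) * (a * s.esymm i) = -a * (s.map (1 - ·)).prod := by
      rw [← ih N (by omega), Finset.mul_sum]
      exact Finset.sum_congr rfl fun i _ => by rw [pow_succ]; ring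
    linear_combination e1 + e2

theorem prod_inv_mul (f g : L → L) (s : Multiset L) (e : L → L) (h : ∀ u ∈ s, g u * f u = e u) :
    (s.map g).prod * (s.map f).prod = (s.map e).prod := by
  rw [← Multiset.prod_map_mul]
  exact congrArg _ (Multiset.map_congr rfl h)

theorem esymm_top_inv (f : L → L) (s : Multiset L) (h : ∀ u ∈ s, f u * u = 1) :
    (s.map f).esymm (Multiset.card s) * s.esymm (Multiset.card s) = 1 := by
  rw [esymm_card, esymm_map_inv f s h _ le_rfl, Nat.sub_self, esymm_zero']

theorem esymm_alt (f : L → L) (s : Multiset L) (h : ∀ u ∈ s, f u * u = 1) :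
    (s.map (· - 1)).esymm (Multiset.card s) =
      (∑ i ∈ range (Multiset.card s + 1), (-1 : L) ^ i * (s.map f).esymm i) * s.esymm (Multiset.card s) := by
  rw [alt_sum (s.map f) _ (by simp), Multiset.map_map, esymm_card]
  have h1 := esymm_card (s.map (· - 1))
  rw [Multiset.card_map] at h1
  rw [h1]
  conv_rhs => arg 2; rw [← Multiset.map_id' s]
  exact (prod_inv_mul _ _ s _ fun u hu => by
    simp only [Function.comp_apply]; linear_combination -h u hu).symm

theorem esymm_alt_inv (f : L → L) (s : Multiset L) (h : ∀ u ∈ s, f u * u = 1) :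
    ((s.map f).map (· - 1)).esymm (Multiset.card s) =
      (∑ i ∈ range (Multiset.card s + 1), (-1 : L) ^ i * s.esymm i) * (s.map f).esymm (Multiset.card s) := by
  rw [alt_sum s _ le_rfl]
  have h1 := esymm_card (s.map f)
  rw [Multiset.card_map] at h1
  rw [h1]
  have h2 := esymm_card ((s.map f).map (· - 1))
  rw [Multiset.card_map, Multiset.card_map] at h2
  rw [h2, Multiset.map_map]
  exact (prod_inv_mul _ _ s _ fun u hu => by
    simp only [Function.comp_apply]; linear_combination -h u hu).symm

end Groth.Agent.Lambda37
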