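import Groth.Agent.Lambda37.Basic

set_option autoImplicit false

universe u

namespace Groth.Agent.Lambda37

open LambdaRing PowerSeries Finset

section Ext

variable {K : Type u} [CommRing K] [LambdaOps K] {K' : Type u} [CommRing K'] [LambdaOps K']
  {P : PosStructure K} {P' : PosStructure K'} {f : K →+* K'}

theorem map_lamSeries (hf : IsLambdaHom f) (x : K) :
    PowerSeries.map f (lamSeries x) = lamSeries (f x) := by
  ext n; simp [hf n x]

theorem map_gamma (hf : IsLambdaHom f) (k : ℕ) (x : K) : f (gamma k x) = gamma k (f x) := by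
  unfold gamma
  split_ifs
  · simp
  · rw [map_sum]
    refine Finset.sum_congr rfl fun j _ => ?_
    rw [map_mul, map_natCast]
    split_ifs <;> simp [hf j x]

theorem map_adams (hf : IsExtension P P' f) (j : ℕ) (x : K) :
    f (adams P j x) = adams P' j (f x) := by
  unfold adams
  rw [← PowerSeries.coeff_map]
  congr 1
  have hresc : ∀ g : K⟦X⟧, PowerSeries.map f (rescale (-1 : K) g) = rescale (-1 : K') (PowerSeries.map f g) := by
    intro g; ext n; simp [coeff_rescale]
  have hinv : PowerSeries.map f ((rescale (-1 : K) (lamSeries x)).invOfUnit 1) =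
      (rescale (-1 : K') (lamSeries (f x))).invOfUnit 1 := by
    have hc : constantCoeff (rescale (-1 : K) (lamSeries x)) = ((1 : Kˣ) : K) := by
      rw [← coeff_zero_eq_constantCoeff_apply, coeff_rescale]; simp [LambdaOps.lam_zero]
    have hc' : constantCoeff (rescale (-1 : K') (lamSeries (f x))) = ((1 : K'ˣ) : K') := by
      rw [← coeff_zero_eq_constantCoeff_apply, coeff_rescale]; simp [LambdaOps.lam_zero]
    refine left_inv_eq_right_inv (a := rescale (-1 : K') (lamSeries (f x))) ?_ (mul_invOfUnit _ _ hc')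
    rw [← map_lamSeries hf.isLambdaHom, ← hresc, ← map_mul, invOfUnit_mul _ _ hc, map_one]
  unfold adamsSeries
  rw [map_sub, map_mul, map_mul, hinv, PowerSeries.map_C, PowerSeries.map_X, map_intCast,
    hf.aug_comp]
  congr 3
  ext n
  simp only [PowerSeries.coeff_map, coeff_derivative, coeff_rescale, coeff_lamSeries, map_mul,
    map_add, map_natCast, map_one, map_pow, map_neg, hf.isLambdaHom (n + 1) x]

theorem isExtension_id (P : PosStructure K) : IsExtension P P (RingHom.id K) where
  isLambdaHom _ _ := rfl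
  injective := Function.injective_id
  aug_comp _ := rfl
  pos_subset _ h := h

theorem IsExtension.comp' {K'' : Type u} [CommRing K''] [LambdaOps K''] {P'' : PosStructure K''}
    {g : K' →+* K''} (hg : IsExtension P' P'' g) (hf : IsExtension P P' f) :
    IsExtension P P'' (g.comp f) where
  isLambdaHom i x := by simp [hf.isLambdaHom i x, hg.isLambdaHom i (f x)]
  injective := hg.injective.comp hf.injective
  aug_comp x := by simp [hg.aug_comp, hf.aug_comp]
  pos_subset e he := hg.pos_subset _ (hf.pos_subset e he)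

theorem isLine_map (hf : IsExtension P P' f) {u : K} (hu : P.IsLine u) : P'.IsLine (f u) :=
  ⟨hf.pos_subset u hu.1, by rw [hf.aug_comp]; exact hu.2⟩

end Ext

section One

variable {K : Type u} [CommRing K] [LambdaOps K] (P : PosStructure K)

theorem isLine_one : P.IsLine (1 : K) := ⟨by simpa using P.natCast_mem 1 one_pos, map_one _⟩

theorem isLine_mul {u v : K} (hu : P.IsLine u) (hv : P.IsLine v) : P.IsLine (u * v) :=
  ⟨P.mul_mem _ _ hu.1 hv.1, by rw [map_mul, hu.2, hv.2, mul_one]⟩

theorem isLine_pow {u : K} (hu : P.IsLine u) (n : ℕ) : P.IsLine (u ^ n) := by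
  induction n with
  | zero => simpa using isLine_one P
  | succ n ih => rw [pow_succ]; exact isLine_mul P ih hu

theorem line_lam {u : K} (hu : P.IsLine u) : ∀ j, 2 ≤ j → LambdaOps.lam j u = 0 :=
  fun j hj => P.lam_eq_zero u hu.1 j (by rw [hu.2]; omega)

include P in
theorem lam_one_eq_zero : ∀ k : ℕ, 2 ≤ k → LambdaOps.lam k (1 : K) = 0 := line_lam P (isLine_one P)

theorem line_isUnit {u : K} (hu : P.IsLine u) : IsUnit u := by
  have := P.isUnit_lam u hu.1
  rwa [hu.2, show ((1 : ℤ)).toNat = 1 from rfl, LambdaOps.lam_one] at this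

theorem adamsSeries_add (x y : K) : adamsSeries P (x + y) = adamsSeries P x + adamsSeries P y := by
  have hcst : ∀ z : K, constantCoeff (rescale (-1 : K) (lamSeries z)) = ((1 : Kˣ) : K) := fun z => by
    rw [← coeff_zero_eq_constantCoeff_apply, coeff_rescale]; simp [LambdaOps.lam_zero]
  have hinv : (rescale (-1 : K) (lamSeries (x + y))).invOfUnit 1 =
      (rescale (-1 : K) (lamSeries x)).invOfUnit 1 * (rescale (-1 : K) (lamSeries y)).invOfUnit 1 := by
    refine left_inv_eq_right_inv (a := rescale (-1 : K) (lamSeries (x + y))) (invOfUnit_mul _ _ (hcst _)) ?_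
    rw [lamSeries_add, map_mul, mul_mul_mul_comm, mul_invOfUnit _ _ (hcst _), mul_invOfUnit _ _ (hcst _),
      one_mul]
  have hx := mul_invOfUnit _ _ (hcst x)
  have hy := mul_invOfUnit _ _ (hcst y)
  unfold adamsSeries
  rw [hinv, lamSeries_add, map_mul, Derivation.leibniz, smul_eq_mul, smul_eq_mul, map_add,
    Int.cast_add, map_add]
  linear_combination (-(X * derivative K (rescale (-1 : K) (lamSeries y)) *
      (rescale (-1 : K) (lamSeries y)).invOfUnit 1)) * hx +
    (-(X * derivative K (rescale (-1 : K) (lamSeries x)) *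
      (rescale (-1 : K) (lamSeries x)).invOfUnit 1)) * hy

/-- ψ^j as an additive map. -/
noncomputable def adamsHom (j : ℕ) : K →+ K :=
  AddMonoidHom.mk' (adams P j) fun x y => by simp [adams, adamsSeries_add]

@[simp] theorem adamsHom_apply (j : ℕ) (x : K) : adamsHom P j x = adams P j x := rfl

theorem adams_line {u : K} (hu : P.IsLine u) (j : ℕ) : adams P j u = u ^ j := by
  have hr : rescale (-1 : K) (lamSeries u) = 1 - C u * X := by
    rw [lamSeries_eq_linear (line_lam P hu)]
    ext n
    rcases n with _ | _ | n <;> simp [coeff_rescale, coeff_one]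
  have hc : constantCoeff (1 - C u * X) = ((1 : Kˣ) : K) := by simp
  have hinv : (1 - C u * X).invOfUnit 1 = mk fun n => u ^ n := by
    refine left_inv_eq_right_inv (a := 1 - C u * X) (invOfUnit_mul _ _ hc) ?_
    ext n
    rw [sub_mul, one_mul, map_sub, mul_assoc, coeff_C_mul]
    rcases n with _ | n
    · simp
    · rw [coeff_succ_X_mul, coeff_mk, coeff_mk, pow_succ']; simp
  have hD : derivative K (1 - C u * X) = -C u := by
    rw [map_sub, Derivation.map_one_eq_zero, Derivation.leibniz, derivative_X, derivative_C]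
    simp
  unfold adams adamsSeries
  rw [hr, hinv, hD, hu.2, Int.cast_one, map_one, map_sub,
    show X * -C u * mk (fun n => u ^ n) = -(X * (C u * mk fun n => u ^ n)) by ring, map_neg]
  rcases j with _ | j
  · simp
  · rw [coeff_succ_X_mul, coeff_C_mul, coeff_mk, coeff_one, if_neg (Nat.succ_ne_zero j), pow_succ']
    ring

theorem adams_one (j : ℕ) : adams P j 1 = 1 := by rw [adams_line P (isLine_one P), one_pow]

theorem adams_msum {s : Multiset K} (hs : ∀ u ∈ s, P.IsLine u) (j : ℕ) :
    adams P j s.sum = (s.map (· ^ j)).sum := by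
  rw [← adamsHom_apply, map_multiset_sum]
  exact congrArg _ (Multiset.map_congr rfl fun u hu => adams_line P (hs u hu) j)

theorem card_eq_aug {e : K} {s : Multiset K} (hs : ∀ u ∈ s, P.IsLine u) (h : s.sum = e) :
    Multiset.card s = (P.aug e).toNat := by
  subst h
  rw [map_multiset_sum, Multiset.map_congr rfl fun u hu => (hs u hu).2]
  simp

end One

section Splitting

variable {K : Type u} [CommRing K] [LambdaOps K] {P : PosStructure K}

theorem exists_split (hK : HasSplitting K P) : ∀ l : List K, (∀ e ∈ l, e ∈ P.pos) →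
    ∃ (L : PosLambdaRing.{u}) (f : K →+* L.carrier), IsExtension P L.posStr f ∧
      ∀ e ∈ l, ∃ s : Multiset L.carrier, (∀ v ∈ s, L.posStr.IsLine v) ∧ s.sum = f e := by
  obtain ⟨C, hC, hsplit⟩ := hK
  intro l
  suffices H : (∀ e ∈ l, e ∈ P.pos) → ∃ (L : PosLambdaRing.{u}) (f : K →+* L.carrier),
      L ∈ C ∧ IsExtension P L.posStr f ∧
      ∀ e ∈ l, ∃ s : Multiset L.carrier, (∀ v ∈ s, L.posStr.IsLine v) ∧ s.sum = f e by
    intro h
    obtain ⟨L, f, -, hf, hs⟩ := H h
    exact ⟨L, f, hf, hs⟩
  induction l with
  | nil => exact fun _ => ⟨⟨K, P⟩, RingHom.id K, hC, isExtension_id P, by simp⟩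
  | cons a l ih =>
    intro hl
    obtain ⟨L, f, hL, hf, hs⟩ := ih fun e he => hl e (List.mem_cons_of_mem _ he)
    obtain ⟨L', hL', g, hg, s, hsl, hsum⟩ := hsplit L hL (f a) (hf.pos_subset a (hl a (by simp)))
    refine ⟨L', g.comp f, hL', IsExtension.comp' hg hf, fun e he => ?_⟩
    rcases List.mem_cons.mp he with rfl | he
    · exact ⟨s, hsl, hsum⟩
    · obtain ⟨t, htl, htsum⟩ := hs e he
      refine ⟨t.map g, fun v hv => ?_, ?_⟩
      · obtain ⟨w, hw, rfl⟩ := Multiset.mem_map.mp hv
        exact isLine_map hg (htl w hw)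
      · rw [← map_multiset_sum, htsum]; rfl

theorem adams_mul_pos (hK : HasSplitting K P) (j : ℕ) {e e' : K} (he : e ∈ P.pos) (he' : e' ∈ P.pos) :
    adams P j (e * e') = adams P j e * adams P j e' := by
  obtain ⟨L, f, hf, hs⟩ := exists_split hK [e, e'] (by simp [he, he'])
  obtain ⟨s, hsl, hssum⟩ := hs e (by simp)
  obtain ⟨t, htl, htsum⟩ := hs e' (by simp)
  apply hf.injective
  rw [map_mul, map_adams hf, map_adams hf, map_adams hf, map_mul, ← hssum, ← htsum]
  have hprod : ((s ×ˢ t).map (fun p => p.1 * p.2)).sum = s.sum * t.sum := by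
    clear hsl hssum
    induction s using Multiset.induction with
    | empty => simp
    | cons a s ih =>
      rw [Multiset.cons_product, Multiset.map_add, Multiset.sum_add, ih, Multiset.sum_cons, add_mul,
        Multiset.map_map]
      congr 1
      exact Multiset.sum_map_mul_left.trans (by rw [Multiset.map_id'])
  have hlines : ∀ v ∈ (s ×ˢ t).map (fun p => p.1 * p.2), L.posStr.IsLine v := by
    intro v hv
    obtain ⟨⟨a, b⟩, hab, rfl⟩ := Multiset.mem_map.mp hv
    rw [Multiset.mem_product] at hab
    exact isLine_mul _ (hsl a hab.1) (htl b hab.2)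
  rw [← hprod, adams_msum _ hlines, adams_msum _ hsl, adams_msum _ htl, Multiset.map_map]
  clear hsl hssum hlines hprod
  induction s using Multiset.induction with
  | empty => simp
  | cons a s ih =>
    rw [Multiset.cons_product, Multiset.map_add, Multiset.sum_add, ih, Multiset.map_cons, Multiset.sum_cons, add_mul,
      Multiset.map_map]
    congr 1
    simp only [Function.comp_def, mul_pow]
    exact Multiset.sum_map_mul_left

theorem adams_mul (hK : HasSplitting K P) (j : ℕ) (x y : K) :
    adams P j (x * y) = adams P j x * adams P j y := by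
  obtain ⟨e, f, he, hf, rfl⟩ := P.exists_sub x
  obtain ⟨e', f', he', hf', rfl⟩ := P.exists_sub y
  simp only [← adamsHom_apply, sub_mul, mul_sub, map_sub]
  simp only [adamsHom_apply, adams_mul_pos hK, he, he', hf, hf']

theorem adams_adams (hK : HasSplitting K P) (i j : ℕ) (x : K) :
    adams P i (adams P j x) = adams P (i * j) x := by
  have hpos : ∀ e ∈ P.pos, adams P i (adams P j e) = adams P (i * j) e := by
    intro e he
    obtain ⟨L, f, hf, hs⟩ := exists_split hK [e] (by simp [he])
    obtain ⟨s, hsl, hssum⟩ := hs e (by simp)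
    apply hf.injective
    rw [map_adams hf, map_adams hf, map_adams hf, ← hssum, adams_msum _ hsl, adams_msum _ hsl,
      adams_msum, Multiset.map_map]
    · exact congrArg _ (Multiset.map_congr rfl fun u _ => by simp [← pow_mul, mul_comm])
    · intro v hv
      obtain ⟨w, hw, rfl⟩ := Multiset.mem_map.mp hv
      exact isLine_pow _ (hsl w hw) j
  obtain ⟨e, f, he, hf, rfl⟩ := P.exists_sub x
  simp only [← adamsHom_apply, map_sub]
  simp only [adamsHom_apply, hpos, he, hf]

/-- ψ^j as a ring endomorphism. -/
noncomputable def adamsRingHom (hK : HasSplitting K P) (j : ℕ) : K →+* K :=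
  { adamsHom P j with
    map_one' := adams_one P j
    map_mul' := adams_mul hK j }

@[simp] theorem adamsRingHom_apply (hK : HasSplitting K P) (j : ℕ) (x : K) :
    adamsRingHom hK j x = adams P j x := rfl

theorem aug_lam (hK : HasSplitting K P) {e : K} (he : e ∈ P.pos) (i : ℕ) :
    P.aug (LambdaOps.lam i e) = ((P.aug e).toNat.choose i : ℤ) := by
  obtain ⟨L, f, hf, hs⟩ := exists_split hK [e] (by simp [he])
  obtain ⟨s, hsl, hssum⟩ := hs e (by simp)
  have hcard : Multiset.card s = (P.aug e).toNat := by
    rw [← hf.aug_comp]; exact card_eq_aug _ hsl hssum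
  rw [← hf.aug_comp, hf.isLambdaHom, ← hssum, lam_msum (fun u hu => line_lam _ (hsl u hu)), ← hcard]
  have : ∀ t : Multiset L.carrier, (∀ u ∈ t, L.posStr.IsLine u) → ∀ k,
      L.posStr.aug (t.esymm k) = ((Multiset.card t).choose k : ℤ) := by
    intro t ht k
    rw [Multiset.esymm, map_multiset_sum, Multiset.map_map,
      Multiset.map_congr rfl (g := fun _ => (1 : ℤ)) fun u hu => ?_]
    · simp [Multiset.card_powersetCard]
    · rw [Function.comp_apply, map_multiset_prod, Multiset.map_congr rfl (g := fun _ => (1 : ℤ)) fun v hv =>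
        (ht v (Multiset.mem_of_le (Multiset.mem_powersetCard.mp hu).1 hv)).2]
      simp
  exact this s hsl i

end Splitting

end Groth.Agent.Lambda37
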