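import Groth.Prelude.Def_LambdaRing
import Mathlib.RingTheory.PowerSeries.Substitution
import Mathlib.RingTheory.PowerSeries.WellKnown
import Mathlib.RingTheory.MvPolynomial.Symmetric.Defs
import Mathlib.Tactic.Ring
import Mathlib.Tactic.LinearCombination

set_option autoImplicit false

universe u

namespace Groth.Agent.Lambda37

open LambdaRing PowerSeries Finset

variable {K : Type u} [CommRing K] [LambdaOps K]

@[simp] theorem coeff_lamSeries (x : K) (i : ℕ) : coeff i (lamSeries x) = LambdaOps.lam i x := by
  simp [lamSeries]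

@[simp] theorem constantCoeff_lamSeries (x : K) : constantCoeff (lamSeries x) = 1 := by
  rw [← coeff_zero_eq_constantCoeff_apply, coeff_lamSeries, LambdaOps.lam_zero]

theorem lamSeries_add (x y : K) : lamSeries (x + y) = lamSeries x * lamSeries y := by
  ext n
  rw [coeff_lamSeries, LambdaOps.lam_add, coeff_mul, Finset.Nat.sum_antidiagonal_eq_sum_range_succ_mk]
  simp

theorem lamSeries_isUnit (x : K) : IsUnit (lamSeries x) := by
  rw [isUnit_iff_constantCoeff, constantCoeff_lamSeries]; exact isUnit_one

@[simp] theorem lamSeries_zero : lamSeries (0 : K) = 1 := by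
  refine (lamSeries_isUnit (0 : K)).mul_left_cancel ?_
  rw [← lamSeries_add, add_zero, mul_one]

theorem lamSeries_sub (x y : K) : lamSeries (x - y) * lamSeries y = lamSeries x := by
  rw [← lamSeries_add, sub_add_cancel]

theorem lamSeries_sum {ι : Type*} (s : Finset ι) (f : ι → K) :
    lamSeries (∑ i ∈ s, f i) = ∏ i ∈ s, lamSeries (f i) := by
  classical
  induction s using Finset.induction with
  | empty => simp
  | insert a s ha ih => rw [Finset.sum_insert ha, Finset.prod_insert ha, lamSeries_add, ih]

theorem lamSeries_msum (s : Multiset K) : lamSeries s.sum = (s.map lamSeries).prod := by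
  induction s using Multiset.induction with
  | empty => simp
  | cons a s ih => rw [Multiset.sum_cons, Multiset.map_cons, Multiset.prod_cons, lamSeries_add, ih]

theorem lamSeries_eq_linear {u : K} (h : ∀ j, 2 ≤ j → LambdaOps.lam j u = 0) :
    lamSeries u = 1 + C u * X := by
  ext n
  rw [coeff_lamSeries, map_add]
  rcases n with _ | _ | n
  · simp [LambdaOps.lam_zero]
  · simp [LambdaOps.lam_one]
  · rw [h _ (by omega), coeff_succ_mul_X]; simp

theorem lamSeries_natCast (h1 : ∀ k : ℕ, 2 ≤ k → LambdaOps.lam k (1 : K) = 0) (n : ℕ) :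
    lamSeries (n : K) = (1 + X) ^ n := by
  induction n with
  | zero => simp
  | succ n ih =>
    rw [Nat.cast_succ, lamSeries_add, ih, lamSeries_eq_linear h1, map_one, one_mul, pow_succ]

omit [LambdaOps K] in
theorem coeff_one_add_X_pow (n k : ℕ) : coeff k ((1 + X : K⟦X⟧) ^ n) = (n.choose k : K) := by
  have : ((1 + Polynomial.X : Polynomial K) ^ n : Polynomial K).toPowerSeries = (1 + X : K⟦X⟧) ^ n := by
    rw [Polynomial.coe_pow, Polynomial.coe_add, Polynomial.coe_one, Polynomial.coe_X]
  rw [← this, Polynomial.coeff_coe, Polynomial.coeff_one_add_X_pow]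

/-- The series `t / (1 - t)`. -/
noncomputable def gT (K : Type u) [CommRing K] : K⟦X⟧ := X * mk 1

omit [LambdaOps K] in
theorem hasSubst_gT : HasSubst (gT K) := HasSubst.of_constantCoeff_zero' (by simp [gT])

/-- The series of the γ-operations. -/
noncomputable def gammaSeries (x : K) : K⟦X⟧ := mk fun k => gamma k x

@[simp] theorem coeff_gammaSeries (x : K) (k : ℕ) : coeff k (gammaSeries x) = gamma k x := by
  simp [gammaSeries]

theorem gamma_zero (x : K) : gamma 0 x = 1 := by simp [gamma]

theorem gamma_one (x : K) : gamma 1 x = x := by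
  simp [gamma, Finset.sum_range_succ, LambdaOps.lam_one]

omit [LambdaOps K] in
theorem coeff_gT_pow (j k : ℕ) : coeff k (gT K ^ j) =
    if j = 0 then (if k = 0 then 1 else 0) else if j ≤ k then ((k - 1).choose (j - 1) : K) else 0 := by
  rcases j with _ | j
  · simp [coeff_one]
  · rw [if_neg (Nat.succ_ne_zero j), gT, mul_pow, mk_one_pow_eq_mk_choose_add, coeff_X_pow_mul']
    split_ifs with h
    · rw [coeff_mk, show j + (k - (j + 1)) = k - 1 by omega, Nat.add_sub_cancel]
    · rfl

theorem gammaSeries_eq_subst (x : K) : gammaSeries x = (lamSeries x).subst (gT K) := by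
  ext k
  rw [coeff_gammaSeries, coeff_subst' hasSubst_gT]
  rw [finsum_eq_sum_of_support_subset _ (s := range (k + 1)) ?_]
  · simp only [coeff_lamSeries, smul_eq_mul, coeff_gT_pow]
    rcases Nat.eq_zero_or_pos k with rfl | hk
    · simp [gamma, LambdaOps.lam_zero]
    · rw [gamma, if_neg hk.ne']
      refine Finset.sum_congr rfl fun j hj => ?_
      rw [Finset.mem_range] at hj
      rcases j with _ | j
      · simp [hk.ne']
      · rw [if_neg (Nat.succ_ne_zero j), if_neg (Nat.succ_ne_zero j), if_pos (by omega), mul_comm]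
  · intro j hj
    rw [Function.mem_support] at hj
    by_contra h
    rw [Finset.coe_range, Set.mem_Iio] at h
    apply hj
    rw [coeff_gT_pow, if_neg (by omega), if_neg (by omega), smul_zero]

theorem gammaSeries_add (x y : K) : gammaSeries (x + y) = gammaSeries x * gammaSeries y := by
  rw [gammaSeries_eq_subst, gammaSeries_eq_subst, gammaSeries_eq_subst, lamSeries_add,
    subst_mul hasSubst_gT]

theorem gammaSeries_zero : gammaSeries (0 : K) = 1 := by
  rw [gammaSeries_eq_subst, lamSeries_zero, ← coe_substAlgHom hasSubst_gT, map_one]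

theorem gammaSeries_sum {ι : Type*} (s : Finset ι) (f : ι → K) :
    gammaSeries (∑ i ∈ s, f i) = ∏ i ∈ s, gammaSeries (f i) := by
  classical
  induction s using Finset.induction with
  | empty => simp [gammaSeries_zero]
  | insert a s ha ih => rw [Finset.sum_insert ha, Finset.prod_insert ha, gammaSeries_add, ih]

theorem gamma_add' (k : ℕ) (x y : K) :
    gamma k (x + y) = ∑ i ∈ range (k + 1), gamma i x * gamma (k - i) y := by
  rw [← coeff_gammaSeries, gammaSeries_add, coeff_mul, Finset.Nat.sum_antidiagonal_eq_sum_range_succ_mk]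
  simp

omit [LambdaOps K] in
theorem one_add_gT : 1 + gT K = mk 1 := by
  ext n
  rcases n with _ | n <;> simp [gT]

theorem gammaSeries_linear_sub_one (h1 : ∀ k : ℕ, 2 ≤ k → LambdaOps.lam k (1 : K) = 0) {u : K}
    (h : ∀ j, 2 ≤ j → LambdaOps.lam j u = 0) : gammaSeries (u - 1) = 1 + C (u - 1) * X := by
  have hone : gammaSeries (1 : K) = mk 1 := by
    rw [gammaSeries_eq_subst, lamSeries_eq_linear h1, subst_add hasSubst_gT, map_one, one_mul,
      subst_X hasSubst_gT, ← coe_substAlgHom hasSubst_gT, map_one, one_add_gT]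
  have hu : gammaSeries u = 1 + C u * gT K := by
    rw [gammaSeries_eq_subst, lamSeries_eq_linear h, subst_add hasSubst_gT, subst_mul hasSubst_gT,
      subst_X hasSubst_gT, ← coe_substAlgHom hasSubst_gT, map_one]
    congr 2
    ext n
    rw [coe_substAlgHom hasSubst_gT, coeff_subst' hasSubst_gT, finsum_eq_single _ 0 (fun d hd => by simp [coeff_C, hd])]
    simp [coeff_C, coeff_one]
  have hadd := gammaSeries_add (u - 1) 1
  rw [sub_add_cancel, hu, hone] at hadd
  have key : (mk 1 : K⟦X⟧) * (1 - X) = 1 := mk_one_mul_one_sub_eq_one K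
  calc gammaSeries (u - 1) = gammaSeries (u - 1) * (mk 1 * (1 - X)) := by rw [key, mul_one]
    _ = (1 + C u * (X * mk 1)) * (1 - X) := by rw [← mul_assoc, ← hadd, gT]
    _ = 1 - X + C u * X * (mk 1 * (1 - X)) := by ring
    _ = 1 + C (u - 1) * X := by rw [key, map_sub, map_one]; ring

omit [LambdaOps K] in
theorem coeff_prod_linear {ι : Type*} (s : Finset ι) (a : ι → K) (k : ℕ) :
    coeff k (∏ i ∈ s, (1 + C (a i) * X)) = ∑ t ∈ s.powersetCard k, ∏ i ∈ t, a i := by
  classical
  rw [Finset.prod_one_add, map_sum, Finset.powersetCard_eq_filter, Finset.sum_filter]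
  refine Finset.sum_congr rfl fun t _ => ?_
  rw [Finset.prod_mul_distrib, ← map_prod, Finset.prod_const, coeff_C_mul, coeff_X_pow]
  simp [eq_comm]

omit [LambdaOps K] in
theorem coeff_mprod_linear (s : Multiset K) (k : ℕ) :
    coeff k ((s.map fun a => 1 + C a * X).prod) = s.esymm k := by
  induction s using Multiset.induction generalizing k with
  | empty =>
    rcases k with _ | k <;> simp [Multiset.esymm, coeff_one, Multiset.powersetCard_zero_right]
  | cons a s ih =>
    rw [Multiset.map_cons, Multiset.prod_cons, add_mul, one_mul, map_add, ih, mul_assoc, coeff_C_mul]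
    rcases k with _ | k
    · simp [Multiset.esymm]
    · rw [coeff_succ_X_mul, ih]
      simp [Multiset.esymm, Multiset.powersetCard_cons, Multiset.map_map,
        Multiset.sum_map_mul_left]

theorem lam_msum {s : Multiset K} (hs : ∀ u ∈ s, ∀ j, 2 ≤ j → LambdaOps.lam j u = 0) (k : ℕ) :
    LambdaOps.lam k s.sum = s.esymm k := by
  rw [← coeff_lamSeries, lamSeries_msum, ← coeff_mprod_linear]
  congr 1
  exact congrArg _ (Multiset.map_congr rfl fun u hu => lamSeries_eq_linear (hs u hu))

theorem gamma_msum_sub_one (h1 : ∀ k : ℕ, 2 ≤ k → LambdaOps.lam k (1 : K) = 0) {s : Multiset K}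
    (hs : ∀ u ∈ s, ∀ j, 2 ≤ j → LambdaOps.lam j u = 0) (k : ℕ) :
    gamma k (s.sum - (Multiset.card s : K)) = (s.map (· - 1)).esymm k := by
  have hG : ∀ s : Multiset K, (∀ u ∈ s, ∀ j, 2 ≤ j → LambdaOps.lam j u = 0) →
      gammaSeries (s.sum - (Multiset.card s : K)) = ((s.map (· - 1)).map fun a => 1 + C a * X).prod := by
    intro s
    induction s using Multiset.induction with
    | empty => intro _; simp [gammaSeries_zero]
    | cons a s ih =>
      intro hs
      rw [Multiset.sum_cons, Multiset.card_cons, Nat.cast_succ,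
        show a + s.sum - ((Multiset.card s : K) + 1) = (a - 1) + (s.sum - (Multiset.card s : K)) by ring,
        gammaSeries_add, ih fun u hu => hs u (Multiset.mem_cons_of_mem hu),
        gammaSeries_linear_sub_one h1 (hs a (Multiset.mem_cons_self _ _))]
      simp [Multiset.map_map]
  rw [← coeff_gammaSeries, hG s hs, coeff_mprod_linear]

theorem gamma_eq_lam (h1 : ∀ k : ℕ, 2 ≤ k → LambdaOps.lam k (1 : K) = 0) (n : ℕ) (x : K) :
    gamma n x = LambdaOps.lam n (x + (n : K) - 1) := by
  rcases Nat.eq_zero_or_pos n with rfl | hn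
  · rw [gamma_zero, LambdaOps.lam_zero]
  obtain ⟨n, rfl⟩ : ∃ m, n = m + 1 := ⟨n - 1, by omega⟩
  rw [show x + ((n + 1 : ℕ) : K) - 1 = x + (n : K) by push_cast; ring, LambdaOps.lam_add, gamma,
    if_neg (Nat.succ_ne_zero n)]
  refine Finset.sum_congr rfl fun j hj => ?_
  rw [← coeff_lamSeries (n : K), lamSeries_natCast h1, coeff_one_add_X_pow]
  rw [Finset.mem_range] at hj
  rcases j with _ | j
  · simp
  · rw [if_neg (Nat.succ_ne_zero j), show n + 1 - 1 = n by omega, show j + 1 - 1 = j by omega,
      show n + 1 - (j + 1) = n - j by omega, Nat.choose_symm (show j ≤ n by omega)]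
    ring

end Groth.Agent.Lambda37
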