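import Groth.Prelude.Def_LambdaSp
import Groth.Agent.Lambda37.Sym
import Mathlib.Algebra.MvPolynomial.Equiv

set_option autoImplicit false

namespace Groth.Agent.Lambda37

open MvPolynomial Finset

variable {n : ℕ}

theorem rename_mulGen (e f : Equiv.Perm (Fin n)) :
    rename (Sum.map e f) (LambdaRing.mulGen n n) = LambdaRing.mulGen n n := by
  classical
  have hm : ∀ s : Multiset (MvPolynomial (Fin n ⊕ Fin n) ℤ), ∀ k,
      rename (Sum.map e f) (s.esymm k) = (s.map (rename (Sum.map e f))).esymm k := by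
    intro s k
    simp [Multiset.esymm, map_multiset_sum, map_multiset_prod, Multiset.powersetCard_map,
      Multiset.map_map]
  rw [LambdaRing.mulGen, hm, Multiset.map_map]
  congr 1
  have : (univ : Finset (Fin n × Fin n)).val.map (Equiv.prodCongr e f) = univ.val := by
    exact congrArg Finset.val (Finset.map_univ_equiv (Equiv.prodCongr e f))
  conv_rhs => rw [← this, Multiset.map_map]
  exact Multiset.map_congr rfl fun ab _ => by simp

theorem mulGen_isWeightedHomogeneous :
    IsWeightedHomogeneous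
      (Sum.elim (fun _ : Fin n => ((1, 0) : ℕ × ℕ)) (fun _ : Fin n => ((0, 1) : ℕ × ℕ)))
      (LambdaRing.mulGen n n) (n, n) := by
  classical
  rw [LambdaRing.mulGen, Finset.esymm_map_val]
  refine IsWeightedHomogeneous.sum _ _ _ fun s hs => ?_
  have h := IsWeightedHomogeneous.prod (R := ℤ) s
    (fun ab : Fin n × Fin n => (X (Sum.inl ab.1) * X (Sum.inr ab.2) : MvPolynomial (Fin n ⊕ Fin n) ℤ))
    (fun _ => ((1, 1) : ℕ × ℕ))
    (w := Sum.elim (fun _ : Fin n => ((1, 0) : ℕ × ℕ)) (fun _ : Fin n => ((0, 1) : ℕ × ℕ)))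
    (fun ab _ => by
      have := (isWeightedHomogeneous_X ℤ (Sum.elim (fun _ : Fin n => ((1, 0) : ℕ × ℕ)) (fun _ : Fin n => ((0, 1) : ℕ × ℕ))) (Sum.inl ab.1)).mul
        (isWeightedHomogeneous_X ℤ (Sum.elim (fun _ : Fin n => ((1, 0) : ℕ × ℕ)) (fun _ : Fin n => ((0, 1) : ℕ × ℕ))) (Sum.inr ab.2))
      exact this)
  rw [Finset.sum_const, (Finset.mem_powersetCard.mp hs).2] at h
  simpa using h

/-- The elementary symmetric functions of the two families. -/
noncomputable def eBoth (n : ℕ) : Fin n ⊕ Fin n → MvPolynomial (Fin n ⊕ Fin n) ℤ :=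
  Sum.elim (fun k : Fin n => rename Sum.inl (esymm (Fin n) ℤ ((k : ℕ) + 1)))
    (fun k : Fin n => rename Sum.inr (esymm (Fin n) ℤ ((k : ℕ) + 1)))

theorem aeval_eBoth (x : MvPolynomial (Fin n ⊕ Fin n) ℤ) :
    sumAlgEquiv ℤ (Fin n) (Fin n) (aeval (eBoth n) x) =
      aeval (eVec (MvPolynomial (Fin n) ℤ) n)
        (map (aeval (eVec ℤ n)).toRingHom (sumAlgEquiv ℤ (Fin n) (Fin n) x)) := by
  induction x using MvPolynomial.induction_on with
  | C a => simp
  | add p q hp hq => simp only [map_add, hp, hq]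
  | mul_X p s hp =>
    simp only [map_mul, aeval_X, hp]
    congr 1
    rcases s with i | j
    · simp only [sumAlgEquiv_X_inl, map_X, aeval_X, eBoth, Sum.elim_inl, eVec]
      rw [esymm, esymm, map_sum, map_sum]
      refine Finset.sum_congr rfl fun t _ => ?_
      simp [map_prod]
    · simp only [sumAlgEquiv_X_inr, eBoth, Sum.elim_inr, map_C, AlgHom.toRingHom_eq_coe,
        RingHom.coe_coe, aeval_X, algebraMap_eq, aeval_C, eVec]
      rw [esymm, map_sum, map_sum, map_sum]
      refine Finset.sum_congr rfl fun t _ => ?_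
      simp [map_prod]

theorem aeval_eBoth_injective : Function.Injective
    (aeval (eBoth n) : MvPolynomial (Fin n ⊕ Fin n) ℤ →ₐ[ℤ] MvPolynomial (Fin n ⊕ Fin n) ℤ) := by
  intro a b hab
  have h := congrArg (sumAlgEquiv ℤ (Fin n) (Fin n)) hab
  rw [aeval_eBoth, aeval_eBoth] at h
  exact (sumAlgEquiv ℤ (Fin n) (Fin n)).injective
    (map_injective _ aeval_eVec_injective (aeval_eVec_injective h))

theorem exists_isMulPoly (n : ℕ) :
    ∃ P : MvPolynomial (Fin n ⊕ Fin n) ℤ, LambdaRing.IsMulPoly n P := by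
  classical
  set Φ := sumAlgEquiv ℤ (Fin n) (Fin n)
  set M := Φ (LambdaRing.mulGen n n) with hM
  have hΦ : ∀ (e f : Equiv.Perm (Fin n)) (x : MvPolynomial (Fin n ⊕ Fin n) ℤ),
      Φ (rename (Sum.map e f) x) =
        rename e (map (rename f).toRingHom (Φ x)) := by
    intro e f x
    induction x using MvPolynomial.induction_on with
    | C a => simp [Φ]
    | add p q hp hq => simp only [map_add, hp, hq]
    | mul_X p s hp => rcases s with i | j <;> simp [Φ, map_mul, hp]
  have hsym : M.IsSymmetric := by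
    intro e
    have := hΦ e 1 (LambdaRing.mulGen n n)
    rw [rename_mulGen] at this
    conv_rhs => rw [hM, this]
    congr 1
    have h1 : (rename ((1 : Equiv.Perm (Fin n)) : Fin n → Fin n)).toRingHom =
        RingHom.id (MvPolynomial (Fin n) ℤ) := by
      ext <;> simp
    rw [h1, map_id]
  obtain ⟨q, hq⟩ := exists_eq_aeval_eVec hsym
  have hcoeff : ∀ d, (coeff d q).IsSymmetric := by
    intro d f
    have h1 : map (rename f).toRingHom M = M := by
      have := hΦ 1 f (LambdaRing.mulGen n n)
      rw [rename_mulGen, Equiv.Perm.coe_one, rename_id_apply] at this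
      exact this.symm
    have h2 : aeval (eVec (MvPolynomial (Fin n) ℤ) n) (map (rename f).toRingHom q) =
        map (rename f).toRingHom M := by
      rw [← hq, MvPolynomial.map_aeval (B := MvPolynomial (Fin n) (MvPolynomial (Fin n) ℤ)), aeval_def, eval₂_map, ← coe_eval₂Hom]
      refine eval₂Hom_congr ?_ ?_ rfl
      · ext a <;> simp
      · funext k; simp [eVec, map_esymm]
    have h3 : map (rename f).toRingHom q = q := aeval_eVec_injective (h2.trans (h1.trans hq.symm))
    have := congrArg (coeff d) h3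
    rwa [coeff_map] at this
  choose c hc using fun d => exists_eq_aeval_eVec (hcoeff d)
  refine ⟨Φ.symm (∑ d ∈ q.support, monomial d (c d)), ?_, ?_⟩
  · refine Φ.injective ?_
    show Φ (aeval (eBoth n) _) = _
    rw [aeval_eBoth, Φ.apply_symm_apply]
    refine Eq.trans ?_ hq
    congr 1
    rw [map_sum]
    conv_rhs => rw [q.as_sum]
    refine Finset.sum_congr rfl fun d _ => ?_
    rw [map_monomial]
    exact congrArg _ (hc d)
  · refine isWeightedHomogeneous_of_aeval (g := eBoth n) ?_ aeval_eBoth_injective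
      (v := Sum.elim (fun _ : Fin n => ((1, 0) : ℕ × ℕ)) (fun _ : Fin n => ((0, 1) : ℕ × ℕ))) ?_
    · intro s
      rcases s with k | k
      · simp only [eBoth, Sum.elim_inl, esymm, map_sum, map_prod, rename_X]
        refine IsWeightedHomogeneous.sum _ _ _ fun t ht => ?_
        have h := IsWeightedHomogeneous.prod (R := ℤ) t (fun i => (X (Sum.inl i) : MvPolynomial (Fin n ⊕ Fin n) ℤ))
          (fun _ => ((1, 0) : ℕ × ℕ))
          (w := Sum.elim (fun _ : Fin n => ((1, 0) : ℕ × ℕ)) (fun _ : Fin n => ((0, 1) : ℕ × ℕ)))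
          (fun i _ => isWeightedHomogeneous_X ℤ _ (Sum.inl i))
        rw [Finset.sum_const, (Finset.mem_powersetCard.mp ht).2] at h
        simpa using h
      · simp only [eBoth, Sum.elim_inr, esymm, map_sum, map_prod, rename_X]
        refine IsWeightedHomogeneous.sum _ _ _ fun t ht => ?_
        have h := IsWeightedHomogeneous.prod (R := ℤ) t (fun i => (X (Sum.inr i) : MvPolynomial (Fin n ⊕ Fin n) ℤ))
          (fun _ => ((0, 1) : ℕ × ℕ))
          (w := Sum.elim (fun _ : Fin n => ((1, 0) : ℕ × ℕ)) (fun _ : Fin n => ((0, 1) : ℕ × ℕ)))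
          (fun i _ => isWeightedHomogeneous_X ℤ _ (Sum.inr i))
        rw [Finset.sum_const, (Finset.mem_powersetCard.mp ht).2] at h
        simpa using h
    · have h1 : aeval (eBoth n) (Φ.symm (∑ d ∈ q.support, monomial d (c d))) = LambdaRing.mulGen n n := by
        refine Φ.injective ?_
        rw [aeval_eBoth, Φ.apply_symm_apply]
        refine Eq.trans ?_ hq
        congr 1
        rw [map_sum]
        conv_rhs => rw [q.as_sum]
        refine Finset.sum_congr rfl fun d _ => ?_
        rw [map_monomial]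
        exact congrArg _ (hc d)
      rw [h1]
      exact mulGen_isWeightedHomogeneous

end Groth.Agent.Lambda37
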